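import Groth.Agent.Lib.Grass26.Points
import Mathlib.RingTheory.Grassmannian
import Mathlib.LinearAlgebra.Dual.Lemmas
import Mathlib.LinearAlgebra.TensorProduct.RightExactness

/-!
# Content ideals and closed conditions on Grassmannian points
-/

set_option autoImplicit false
universe u

noncomputable section

open TensorProduct TensorProduct.AlgebraTensorModule

namespace GrothLib.Grass26

variable {R : Type u} [CommRing R] {M : Type u} [AddCommGroup M] [Module R M]
  {A B : Type u} [CommRing A] [CommRing B] [Algebra R A] [Algebra R B]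

/-- The change of scalars on the tensor product. -/
def chg (f : A →ₐ[R] B) : A ⊗[R] M →ₗ[R] B ⊗[R] M := TensorProduct.map f.toLinearMap LinearMap.id

@[simp] theorem chg_tmul (f : A →ₐ[R] B) (a : A) (m : M) : chg f (a ⊗ₜ[R] m) = f a ⊗ₜ m := rfl

theorem chg_smul (f : A →ₐ[R] B) (a : A) (z : A ⊗[R] M) : chg f (a • z) = f a • chg f z := by
  induction z with
  | zero => simp
  | tmul b m => simp [smul_tmul']
  | add x y hx hy => simp [smul_add, hx, hy]

variable {k : ℕ}

/-- The base change of a point is spanned by the image of the point. -/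
theorem map_eq_span (f : A →ₐ[R] B) (N : Module.Grassmannian A (A ⊗[R] M) k) :
    (Module.Grassmannian.map f N).toSubmodule = Submodule.span B (chg f '' (N.toSubmodule : Set (A ⊗[R] M))) := by
  letI : Algebra A B := f.toAlgebra
  letI : IsScalarTower R A B := IsScalarTower.of_algebraMap_eq' <| IsScalarTower.algebraMap_eq R A B
  rw [Module.Grassmannian.map_toSubmodule]
  let e := cancelBaseChange R A B B M
  have he : ∀ (b : B) (z : A ⊗[R] M), e (b ⊗ₜ[A] z) = b • chg f z := by
    intro b z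
    induction z with
    | zero => simp
    | tmul a m =>
      simp only [e, cancelBaseChange_tmul, chg_tmul, smul_tmul', smul_eq_mul]
      rw [Algebra.smul_def]
      exact congrArg (· ⊗ₜ[R] m) (mul_comm _ _)
    | add x y hx hy => simp [tmul_add, hx, hy, smul_add]
  refine le_antisymm (fun w hw => ?_) (Submodule.span_le.2 ?_)
  · have hw' : N.toSubmodule.mkQ.baseChange B (e.symm w) = 0 := hw
    have hex0 : Function.Exact N.toSubmodule.subtype N.toSubmodule.mkQ :=
      fun z => ⟨fun h => ⟨⟨z, (Submodule.Quotient.mk_eq_zero _).1 h⟩, rfl⟩, by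
        rintro ⟨y, rfl⟩; exact (Submodule.Quotient.mk_eq_zero _).2 y.2⟩
    have hex := @lTensor_exact A N.toSubmodule (A ⊗[R] M) ((A ⊗[R] M) ⧸ N.toSubmodule) _ _ _ _ _ _ _
      N.toSubmodule.subtype N.toSubmodule.mkQ B _ _ hex0 N.toSubmodule.mkQ_surjective
    obtain ⟨v, hv⟩ := (hex (e.symm w)).1 hw'
    rw [← e.apply_symm_apply w, ← hv]
    clear hv hw hw'
    induction v with
    | zero => simp
    | tmul b z =>
      rw [LinearMap.lTensor_tmul, he]
      exact Submodule.smul_mem _ b (Submodule.subset_span ⟨_, z.2, rfl⟩)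
    | add x y hx hy => rw [map_add, map_add]; exact add_mem hx hy
  · rintro _ ⟨z, hz, rfl⟩
    show N.toSubmodule.mkQ.baseChange B (e.symm (chg f z)) = 0
    rw [show chg f z = e ((1 : B) ⊗ₜ[A] z) by rw [he, one_smul], e.symm_apply_apply, LinearMap.baseChange_tmul,
      Submodule.mkQ_apply, (Submodule.Quotient.mk_eq_zero _).2 hz, tmul_zero]

/-- The ideal of values on `S` of the functionals killing `N`. -/
def content (N : Module.Grassmannian A (A ⊗[R] M) k) (S : Set (A ⊗[R] M)) : Ideal A :=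
  Ideal.span {a | ∃ θ : A ⊗[R] M →ₗ[A] A, N.toSubmodule ≤ LinearMap.ker θ ∧ ∃ z ∈ S, θ z = a}

theorem content_eq_bot_iff (N : Module.Grassmannian A (A ⊗[R] M) k) (S : Set (A ⊗[R] M)) :
    content N S = ⊥ ↔ S ⊆ N.toSubmodule := by
  rw [content, Ideal.span_eq_bot]
  refine ⟨fun h z hz => ?_, ?_⟩
  · rw [SetLike.mem_coe, ← Submodule.Quotient.mk_eq_zero, ← Module.forall_dual_apply_eq_zero_iff A]
    intro φ
    exact h _ ⟨φ.comp N.toSubmodule.mkQ, fun x hx => by simp [(Submodule.Quotient.mk_eq_zero _).2 hx], z, hz, rfl⟩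
  · rintro h _ ⟨θ, hθ, z, hz, rfl⟩
    exact LinearMap.mem_ker.1 (hθ (h hz))

theorem content_le {N : Module.Grassmannian A (A ⊗[R] M) k} {S : Set (A ⊗[R] M)} {I : Ideal A}
    (h : ∀ θ : A ⊗[R] M →ₗ[A] A, N.toSubmodule ≤ LinearMap.ker θ → ∀ z ∈ S, θ z ∈ I) : content N S ≤ I :=
  Ideal.span_le.2 fun _ ⟨θ, hθ, z, hz, e⟩ => e ▸ h θ hθ z hz

theorem mem_content_of_mem_span {N : Module.Grassmannian A (A ⊗[R] M) k} {S : Set (A ⊗[R] M)}
    {θ : A ⊗[R] M →ₗ[A] A} (hθ : N.toSubmodule ≤ LinearMap.ker θ) {z : A ⊗[R] M} (hz : z ∈ Submodule.span A S) :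
    θ z ∈ content N S := by
  have : Submodule.span A S ≤ Submodule.comap θ (content N S) :=
    Submodule.span_le.2 fun w hw => Ideal.subset_span ⟨θ, hθ, w, hw, rfl⟩
  exact this hz

/-- Functionals killing a point extend to the base change. -/
theorem exists_ext (f : A →ₐ[R] B) (θ : A ⊗[R] M →ₗ[A] A) :
    ∃ θ' : B ⊗[R] M →ₗ[B] B, ∀ z, θ' (chg f z) = f (θ z) := by
  let g : M →ₗ[R] B := f.toLinearMap.comp ((θ.restrictScalars R).comp (TensorProduct.mk R A M 1))
  refine ⟨AlgebraTensorModule.lift (LinearMap.toSpanSingleton B (M →ₗ[R] B) g), fun z => ?_⟩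
  induction z with
  | zero => simp
  | tmul a m =>
    have h : (a ⊗ₜ[R] m : A ⊗[R] M) = a • ((1 : A) ⊗ₜ[R] m) := by simp [smul_tmul']
    conv_rhs => rw [h, map_smul, smul_eq_mul, map_mul]
    simp [g]
  | add x y hx hy => rw [map_add, map_add, map_add, map_add, hx, hy]

/-- Content ideals commute with base change. -/
theorem content_map (f : A →ₐ[R] B) (N : Module.Grassmannian A (A ⊗[R] M) k) (S : Set (A ⊗[R] M))
    (S' : Set (B ⊗[R] M)) (h₁ : chg f '' S ⊆ Submodule.span B S') (h₂ : S' ⊆ Submodule.span B (chg f '' S)) :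
    content (Module.Grassmannian.map f N) S' = (content N S).map f.toRingHom := by
  refine le_antisymm (content_le fun θ' hθ' w hw => ?_) (Ideal.map_le_iff_le_comap.2 (content_le fun θ hθ z hz => ?_))
  · obtain ⟨n, p, hp⟩ := Module.Finite.exists_fin' A ((A ⊗[R] M) ⧸ N.toSubmodule)
    obtain ⟨s, hs⟩ := Module.projective_lifting_property p LinearMap.id hp
    let q : Fin n → A ⊗[R] M := fun i => (N.toSubmodule.mkQ_surjective (p (Pi.single i 1))).choose
    have hq : ∀ i, N.toSubmodule.mkQ (q i) = p (Pi.single i 1) := fun i =>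
      (N.toSubmodule.mkQ_surjective (p (Pi.single i 1))).choose_spec
    let t : Fin n → (A ⊗[R] M →ₗ[A] A) := fun i => (LinearMap.proj i).comp (s.comp N.toSubmodule.mkQ)
    have hdec : ∀ z : A ⊗[R] M, z - ∑ i, t i z • q i ∈ N.toSubmodule := by
      intro z
      rw [← Submodule.Quotient.mk_eq_zero, ← Submodule.mkQ_apply, map_sub, map_sum, sub_eq_zero]
      have h := congrArg (fun g => g (N.toSubmodule.mkQ z)) hs
      simp only [LinearMap.comp_apply, LinearMap.id_apply] at h
      conv_lhs => rw [← h, pi_eq_sum_univ' (s (N.toSubmodule.mkQ z)), map_sum]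
      refine Finset.sum_congr rfl fun i _ => ?_
      rw [map_smul, map_smul, hq]
      rfl
    have hcmap : ∀ z, θ' (chg f z) = ∑ i, f (t i z) * θ' (chg f (q i)) := by
      intro z
      have h : θ' (chg f (z - ∑ i, t i z • q i)) = 0 :=
        LinearMap.mem_ker.1 (hθ' (by rw [map_eq_span]; exact Submodule.subset_span ⟨_, hdec z, rfl⟩))
      rw [map_sub, map_sub, sub_eq_zero] at h
      rw [h]
      simp only [map_sum, chg_smul, map_smul, smul_eq_mul]
    have hw' : Submodule.span B (chg f '' S) ≤ Submodule.comap θ' ((content N S).map f.toRingHom) := by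
      refine Submodule.span_le.2 ?_
      rintro _ ⟨z, hz, rfl⟩
      show θ' (chg f z) ∈ (content N S).map f.toRingHom
      rw [hcmap]
      exact Ideal.sum_mem _ fun i _ => Ideal.mul_mem_right _ _
        (Ideal.mem_map_of_mem _ (Ideal.subset_span ⟨t i, fun x hx => by
          simp [t, (Submodule.Quotient.mk_eq_zero _).2 hx], z, hz, rfl⟩))
    exact hw' (h₂ hw)
  · obtain ⟨θ', hθ'⟩ := exists_ext f θ
    show f (θ z) ∈ content (Module.Grassmannian.map f N) S'
    rw [← hθ']
    refine mem_content_of_mem_span ?_ (h₁ ⟨z, hz, rfl⟩)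
    rw [map_eq_span, Submodule.span_le]
    rintro _ ⟨w, hw, rfl⟩
    rw [SetLike.mem_coe, LinearMap.mem_ker, hθ', LinearMap.mem_ker.1 (hθ hw), map_zero]

open CategoryTheory AlgebraicGeometry

/-- A condition on Grassmannian points compatible with base change cuts out a closed subscheme. -/
theorem exists_closedSubscheme_of_sets (X : Over (Spec (CommRingCat.of R)))
    (e : ∀ A : CommAlgCat.{u} R, Pt X A ≃ (Module.Grassmannian.functor (R := R) (M := M) k).obj A)
    (he : ∀ (A B : CommAlgCat.{u} R) (φ : A ⟶ B) (g : Pt X A) (g' : Pt X B),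
      g'.left = Spec.map (CommRingCat.ofHom φ.hom.toRingHom) ≫ g.left →
        e B g' = (Module.Grassmannian.functor (R := R) (M := M) k).map φ (e A g))
    (S : ∀ A : CommAlgCat.{u} R, Module.Grassmannian A (A ⊗[R] M) k → Set (A ⊗[R] M))
    (h₁ : ∀ (A B : CommAlgCat.{u} R) (φ : A ⟶ B) (N : Module.Grassmannian A (A ⊗[R] M) k),
      chg φ.hom '' S A N ⊆ Submodule.span B (S B (Module.Grassmannian.map φ.hom N)))
    (h₂ : ∀ (A B : CommAlgCat.{u} R) (φ : A ⟶ B) (N : Module.Grassmannian A (A ⊗[R] M) k),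
      S B (Module.Grassmannian.map φ.hom N) ⊆ Submodule.span B (chg φ.hom '' S A N)) :
    ∃ (Z : Scheme.{u}) (ι : Z ⟶ X.left), IsClosedImmersion ι ∧
      ∀ (A : CommAlgCat.{u} R) (g : Pt X A),
        (∃ h : Spec (CommRingCat.of A) ⟶ Z, h ≫ ι = g.left) ↔ S A (e A g) ⊆ (e A g).toSubmodule := by
  obtain ⟨Z, ι, hι, hZ⟩ := exists_closedSubscheme (fun A g => content (e A g) (S A (e A g))) (fun A B φ g g' hg => by
    show content (e B g') (S B (e B g')) = _
    rw [he A B φ g g' hg]
    exact content_map φ.hom (e A g) _ _ (h₁ A B φ _) (h₂ A B φ _))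
  exact ⟨Z, ι, hι, fun A g => (hZ A g).trans (content_eq_bot_iff _ _)⟩

end GrothLib.Grass26
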