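import Groth.Agent.Lib.Grass26.Glue
import Groth.Agent.Lib.Grass26.Content
import Mathlib.RingTheory.LocalProperties.FinitePresentation
import Mathlib.RingTheory.Flat.EquationalCriterion
import Mathlib.RingTheory.Flat.Localization
import Mathlib.RingTheory.Flat.Stability

/-!
# The Grassmannian functor satisfies descent for standard open coverings
-/

set_option autoImplicit false
set_option linter.style.haveILetI false
universe u

noncomputable section

open TensorProduct CategoryTheory

namespace GrothLib.Grass26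

variable {R : Type u} [CommRing R] {M : Type u} [AddCommGroup M] [Module R M] {k : ℕ}

theorem chg_chg {A B C : Type u} [CommRing A] [CommRing B] [CommRing C] [Algebra R A] [Algebra R B] [Algebra R C]
    (f : A →ₐ[R] B) (g : B →ₐ[R] C) (z : A ⊗[R] M) : chg g (chg f z) = chg (g.comp f) z := by
  induction z with
  | zero => simp
  | tmul a m => simp
  | add x y hx hy => simp [hx, hy]

theorem chg_mem_map {A B : Type u} [CommRing A] [CommRing B] [Algebra R A] [Algebra R B] (f : A →ₐ[R] B)
    (N : Module.Grassmannian A (A ⊗[R] M) k) {z : A ⊗[R] M} (hz : z ∈ N.toSubmodule) :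
    chg f z ∈ (Module.Grassmannian.map f N).toSubmodule := by
  rw [map_eq_span]
  exact Submodule.subset_span ⟨z, hz, rfl⟩

/-- The change of scalars to a localisation. -/
abbrev loc (A : Type u) [CommRing A] [Algebra R A] (f : A) : A →ₐ[R] Localization.Away f :=
  IsScalarTower.toAlgHom R A (Localization.Away f)

theorem exists_pow_smul_eq_chg {A : Type u} [CommRing A] [Algebra R A] (f : A) (w : Localization.Away f ⊗[R] M) :
    ∃ (z : A ⊗[R] M) (n : ℕ), chg (loc (R := R) A f) z = (loc (R := R) A f f) ^ n • w := by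
  induction w with
  | zero => exact ⟨0, 0, by simp⟩
  | tmul a m =>
    obtain ⟨⟨a₀, ⟨_, n, rfl⟩⟩, h⟩ := IsLocalization.surj (Submonoid.powers f) a
    refine ⟨a₀ ⊗ₜ m, n, ?_⟩
    rw [chg_tmul, smul_tmul', smul_eq_mul]
    congr 1
    show algebraMap A _ a₀ = _
    rw [← h, mul_comm, map_pow]
    rfl
  | add x y hx hy =>
    obtain ⟨z₁, n₁, h₁⟩ := hx
    obtain ⟨z₂, n₂, h₂⟩ := hy
    refine ⟨f ^ n₂ • z₁ + f ^ n₁ • z₂, n₁ + n₂, ?_⟩
    rw [map_add, chg_smul, chg_smul, h₁, h₂, map_pow, map_pow, smul_smul, smul_smul, smul_add, ← pow_add,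
      ← pow_add, add_comm n₂]

theorem exists_pow_smul_mem {A : Type u} [CommRing A] [Algebra R A] (f : A) (N : Module.Grassmannian A (A ⊗[R] M) k)
    {z : A ⊗[R] M} (hz : chg (loc (R := R) A f) z ∈ (Module.Grassmannian.map (loc (R := R) A f) N).toSubmodule) :
    ∃ n : ℕ, f ^ n • z ∈ N.toSubmodule := by
  have key : ∀ w ∈ Submodule.span (Localization.Away f) (chg (loc (R := R) A f) '' (N.toSubmodule : Set (A ⊗[R] M))),
      ∃ (y : A ⊗[R] M) (n : ℕ), y ∈ N.toSubmodule ∧ chg (loc (R := R) A f) y = (loc (R := R) A f f) ^ n • w := by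
    intro w hw
    induction hw using Submodule.span_induction with
    | mem x hx => obtain ⟨y, hy, rfl⟩ := hx; exact ⟨y, 0, hy, by simp⟩
    | zero => exact ⟨0, 0, zero_mem _, by simp⟩
    | add x y _ _ hx hy =>
      obtain ⟨z₁, n₁, hz₁, h₁⟩ := hx
      obtain ⟨z₂, n₂, hz₂, h₂⟩ := hy
      refine ⟨f ^ n₂ • z₁ + f ^ n₁ • z₂, n₁ + n₂,
        add_mem (Submodule.smul_mem _ _ hz₁) (Submodule.smul_mem _ _ hz₂), ?_⟩
      rw [map_add, chg_smul, chg_smul, h₁, h₂, map_pow, map_pow, smul_smul, smul_smul, smul_add, ← pow_add,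
        ← pow_add, add_comm n₂]
    | smul c x _ hx =>
      obtain ⟨y, n, hy, h⟩ := hx
      obtain ⟨⟨a, ⟨_, l, rfl⟩⟩, hc⟩ := IsLocalization.surj (Submonoid.powers f) c
      refine ⟨a • y, n + l, Submodule.smul_mem _ _ hy, ?_⟩
      rw [chg_smul, h, show loc (R := R) A f a = algebraMap A _ a from rfl, ← hc, map_pow, smul_smul, smul_smul, pow_add]
      congr 1
      show _ = _ * (algebraMap A _ f) ^ l * c
      rw [show loc (R := R) A f f = algebraMap A _ f from rfl]
      ring
  rw [map_eq_span] at hz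
  obtain ⟨y, n, hy, h⟩ := key _ hz
  have hu : IsUnit (loc (R := R) A f f) := IsLocalization.Away.algebraMap_isUnit f
  -- kernel of the change of scalars
  have hk : ∀ w : A ⊗[R] M, chg (loc (R := R) A f) w = 0 → ∃ l : ℕ, f ^ l • w = 0 := by
    intro w hw
    haveI : IsLocalizedModule (Submonoid.powers f) (Algebra.linearMap A (Localization.Away f)) := inferInstance
    have hl : IsLocalizedModule (Submonoid.powers f)
        (TensorProduct.AlgebraTensorModule.rTensor R M (Algebra.linearMap A (Localization.Away f))) := inferInstance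
    have hw' : TensorProduct.AlgebraTensorModule.rTensor R M (Algebra.linearMap A (Localization.Away f)) w = 0 := by
      rw [← hw]
      clear hw
      induction w with
      | zero => simp
      | tmul a m => simp
      | add x y hx hy => rw [map_add, map_add, hx, hy]
    obtain ⟨⟨_, l, rfl⟩, hl'⟩ := hl.exists_of_eq (hw'.trans (map_zero _).symm)
    exact ⟨l, by simpa [Submonoid.smul_def] using hl'⟩
  obtain ⟨l, hl⟩ := hk (y - f ^ n • z) (by rw [map_sub, chg_smul, h, map_pow, sub_self])
  rw [smul_sub, sub_eq_zero, smul_smul, ← pow_add] at hl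
  exact ⟨l + n, hl ▸ Submodule.smul_mem _ _ hy⟩

variable (R M k) in
/-- The functor. -/
abbrev GrF : CommAlgCat.{u} R ⥤ Type u := Module.Grassmannian.functor (R := R) (M := M) k

theorem grass_sep (A : CommAlgCat.{u} R) (s : Set A) (hs : Ideal.span s = ⊤) (x y : (GrF R M k).obj A)
    (h : ∀ f ∈ s, (GrF R M k).map (awayHom A f) x = (GrF R M k).map (awayHom A f) y) : x = y := by
  have key : ∀ x y : (GrF R M k).obj A,
      (∀ f ∈ s, (GrF R M k).map (awayHom A f) x = (GrF R M k).map (awayHom A f) y) →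
      x.toSubmodule ≤ y.toSubmodule := by
    intro x y h z hz
    refine Submodule.mem_of_span_eq_top_of_smul_pow_mem _ s hs _ fun ⟨f, hf⟩ => ?_
    have h1 : chg (loc (R := R) A f) z ∈ (Module.Grassmannian.map (loc (R := R) A f) y).toSubmodule := by
      rw [show Module.Grassmannian.map (loc (R := R) A f) y = Module.Grassmannian.map (loc (R := R) A f) x from (h f hf).symm]
      exact chg_mem_map _ _ hz
    exact exists_pow_smul_mem f y h1
  exact Module.Grassmannian.ext (le_antisymm (key x y h) (key y x fun f hf => (h f hf).symm))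

theorem grass_glue (A : CommAlgCat.{u} R) (s : Finset A) (hs : Ideal.span (s : Set A) = ⊤)
    (x : ∀ f : s, (GrF R M k).obj (CommAlgCat.of R (Localization.Away f.1)))
    (hx : ∀ (f h : s) (B : CommAlgCat.{u} R) (φ : CommAlgCat.of R (Localization.Away f.1) ⟶ B)
        (ψ : CommAlgCat.of R (Localization.Away h.1) ⟶ B), awayHom A f.1 ≫ φ = awayHom A h.1 ≫ ψ →
          (GrF R M k).map φ (x f) = (GrF R M k).map ψ (x h)) :
    ∃ y : (GrF R M k).obj A, ∀ f : s, (GrF R M k).map (awayHom A f.1) y = x f := by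
  let N : Submodule A (↑A ⊗[R] M) :=
    { carrier := {z | ∀ f : s, chg (loc (R := R) A f.1) z ∈ (x f).toSubmodule}
      add_mem' := fun {a b} ha hb f => by rw [map_add]; exact add_mem (ha f) (hb f)
      zero_mem' := fun f => by rw [map_zero]; exact zero_mem _
      smul_mem' := fun c z hz f => by rw [chg_smul]; exact Submodule.smul_mem _ _ (hz f) }
  let Q := (↑A ⊗[R] M) ⧸ N
  let Qf : s → Type u := fun f => (Localization.Away f.1 ⊗[R] M) ⧸ (x f).toSubmodule
  have huf : ∀ f : s, IsUnit (loc (R := R) A f.1 f.1) := fun f => IsLocalization.Away.algebraMap_isUnit f.1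
  -- elements killed locally
  have hpow : ∀ (f : s) (z : ↑A ⊗[R] M), chg (loc (R := R) A f.1) z ∈ (x f).toSubmodule → ∃ L : ℕ, f.1 ^ L • z ∈ N := by
    intro f z hz
    have hg : ∀ h : s, ∃ L : ℕ, chg (loc (R := R) A h.1) (f.1 ^ L • z) ∈ (x h).toSubmodule := by
      intro h
      obtain ⟨ψ, hψ⟩ := Atlas.exists_away_lift (awayHom A h.1) f.1
      have e := hx f h _ ψ (awayHom (CommAlgCat.of R (Localization.Away h.1)) ((awayHom A h.1).hom f.1)) hψ
      have h1 : chg ψ.hom (chg (loc (R := R) A f.1) z) ∈ (Module.Grassmannian.map ψ.hom (x f)).toSubmodule := chg_mem_map _ _ hz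
      rw [show Module.Grassmannian.map ψ.hom (x f) = Module.Grassmannian.map (loc (R := R) (Localization.Away h.1)
          ((awayHom A h.1).hom f.1)) (x h) from e, chg_chg,
        show ψ.hom.comp (loc (R := R) A f.1) = (loc (R := R) (Localization.Away h.1) ((awayHom A h.1).hom f.1)).comp (loc (R := R) A h.1)
          from congrArg CommAlgCat.Hom.hom hψ, ← chg_chg] at h1
      obtain ⟨L, hL⟩ := exists_pow_smul_mem _ _ h1
      exact ⟨L, by rw [chg_smul, map_pow]; exact hL⟩
    choose L hL using hg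
    refine ⟨Finset.univ.sup L, fun h => ?_⟩
    obtain ⟨d, hd⟩ := Nat.exists_eq_add_of_le (Finset.le_sup (f := L) (Finset.mem_univ h))
    rw [hd, pow_add, mul_comm, mul_smul, chg_smul]
    exact Submodule.smul_mem _ _ (hL h)
  let chgA : ∀ f : s, ↑A ⊗[R] M →ₗ[A] Localization.Away f.1 ⊗[R] M := fun f =>
    { chg (loc (R := R) A f.1) with
      map_smul' := fun a z => by
        show chg (loc (R := R) A f.1) (a • z) = a • chg (loc (R := R) A f.1) z
        rw [chg_smul]
        exact algebraMap_smul _ a _ }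
  let ψ : ∀ f : s, Q →ₗ[A] Qf f := fun f =>
    (Submodule.Quotient.restrictScalarsEquiv A (x f).toSubmodule).toLinearMap.comp
      (N.mapQ ((x f).toSubmodule.restrictScalars A) (chgA f) (fun z hz => hz f))
  have hψ : ∀ f z, ψ f (N.mkQ z) = (x f).toSubmodule.mkQ (chg (loc (R := R) A f.1) z) := fun _ _ => rfl
  haveI hloc : ∀ f : s, IsLocalizedModule (Submonoid.powers f.1) (ψ f) := by
    intro f
    refine ⟨?_, ?_, ?_⟩
    · rintro ⟨_, n, rfl⟩
      rw [Module.End.isUnit_iff]
      have hu : IsUnit (algebraMap A (Localization.Away f.1) (f.1 ^ n)) := by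
        rw [map_pow]
        exact (IsLocalization.Away.algebraMap_isUnit f.1).pow n
      obtain ⟨u, hu⟩ := hu
      have key : ∀ q : Qf f, (f.1 ^ n) • q = (u : Localization.Away f.1) • q := fun q => by
        rw [hu, algebraMap_smul]
      show Function.Bijective fun q : Qf f => (f.1 ^ n) • q
      simp only [key]
      exact ⟨fun a b hab => (IsUnit.smul_left_cancel u.isUnit).1 hab,
        fun q => ⟨(↑u⁻¹ : Localization.Away f.1) • q, by simp [smul_smul]⟩⟩
    · intro q
      obtain ⟨w, rfl⟩ := Submodule.mkQ_surjective _ q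
      obtain ⟨z, n, hz⟩ := exists_pow_smul_eq_chg f.1 w
      refine ⟨⟨N.mkQ z, ⟨_, n, rfl⟩⟩, ?_⟩
      rw [hψ, hz, map_smul, Submonoid.smul_def, ← algebraMap_smul (Localization.Away f.1) (f.1 ^ n), map_pow]
      rfl
    · intro q₁ q₂ h
      obtain ⟨z₁, rfl⟩ := Submodule.mkQ_surjective _ q₁
      obtain ⟨z₂, rfl⟩ := Submodule.mkQ_surjective _ q₂
      rw [hψ, hψ, Submodule.mkQ_apply, Submodule.mkQ_apply, Submodule.Quotient.eq, ← map_sub] at h
      obtain ⟨L, hL⟩ := hpow f _ h
      refine ⟨⟨_, L, rfl⟩, ?_⟩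
      rw [Submonoid.smul_def, Submonoid.smul_def, ← map_smul, ← map_smul, Submodule.mkQ_apply, Submodule.mkQ_apply,
        Submodule.Quotient.eq]
      rw [smul_sub] at hL
      exact hL
  haveI : ∀ f : s, Module.FinitePresentation (Localization.Away f.1) (Qf f) := fun f =>
    Module.finitePresentation_of_projective _ _
  haveI : Module.FinitePresentation A Q :=
    Module.FinitePresentation.of_localizationSpan' (s : Set A) hs (Rₚ := fun g => Localization.Away g.1)
      (Mₚ := fun g => Qf g) (fun g => ψ g) (fun g => inferInstance)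
  haveI : ∀ f : s, Module.Flat A (Qf f) := fun f => Module.Flat.trans A (Localization.Away f.1) (Qf f)
  haveI : Module.Flat A Q := Module.flat_of_isLocalized_span A Q (s : Set A) hs (fun g => Qf g) (fun g => ψ g)
    (fun g => inferInstance)
  haveI : Module.Projective A Q := Module.Flat.projective_of_finitePresentation
  have hrank : ∀ p, Module.rankAtStalk (R := A) Q p = k := by
    intro p
    obtain ⟨f, hfs, hfp⟩ : ∃ f ∈ s, f ∉ p.asIdeal := by
      by_contra hne
      push Not at hne
      exact p.2.ne_top (top_le_iff.1 (hs ▸ Ideal.span_le.2 hne))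
    obtain ⟨q, hq⟩ : p ∈ Set.range (PrimeSpectrum.comap (algebraMap A (Localization.Away f))) := by
      rw [PrimeSpectrum.localization_away_comap_range (Localization.Away f) f]
      exact hfp
    haveI : IsLocalizedModule (Submonoid.powers f) (ψ ⟨f, hfs⟩) := hloc ⟨f, hfs⟩
    rw [← hq, ← Module.rankAtStalk_isBaseChange (IsLocalizedModule.isBaseChange (Submonoid.powers f)
      (Localization.Away f) (ψ ⟨f, hfs⟩)) q]
    exact (x ⟨f, hfs⟩).rankAtStalk_eq q
  refine ⟨{ toSubmodule := N, finite_quotient := inferInstance, projective_quotient := inferInstance,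
            rankAtStalk_eq := hrank }, fun f => Module.Grassmannian.ext ?_⟩
  show (Module.Grassmannian.map (loc (R := R) A f.1) _).toSubmodule = _
  rw [map_eq_span]
  refine le_antisymm (Submodule.span_le.2 ?_) (fun w hw => ?_)
  · rintro _ ⟨z, hz, rfl⟩
    exact hz f
  · obtain ⟨z, n, hz⟩ := exists_pow_smul_eq_chg f.1 w
    obtain ⟨L, hL⟩ := hpow f z (hz ▸ Submodule.smul_mem _ _ hw)
    obtain ⟨u, hu⟩ := ((huf f).pow (L + n))
    have e : chg (loc (R := R) A f.1) (f.1 ^ L • z) = (u : Localization.Away f.1) • w := by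
      rw [chg_smul, hz, map_pow, smul_smul, ← pow_add, hu]
    rw [show w = (↑u⁻¹ : Localization.Away f.1) • chg (loc (R := R) A f.1) (f.1 ^ L • z) by rw [e, smul_smul]; simp]
    exact Submodule.smul_mem _ _ (Submodule.subset_span ⟨_, hL, rfl⟩)

end GrothLib.Grass26
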