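import Groth.Agent.Lib.Grass26.Chart
import Groth.Agent.Lib.Grass26.Sheaf
import Mathlib.LinearAlgebra.StdBasis
import Mathlib.Algebra.MvPolynomial.Eval

/-!
# The Grassmannian of a finitely generated module is representable
-/

set_option autoImplicit false
set_option linter.style.haveILetI false
universe u

noncomputable section

open TensorProduct CategoryTheory AlgebraicGeometry

namespace GrothLib.Grass26

variable {R : Type u} [CommRing R] {M : Type u} [AddCommGroup M] [Module R M]
  {ι : Type u} {k : ℕ}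

/-- The free coordinates of a chart. -/
abbrev Param (J : Fin k → ι) : Type u := {p : Fin k × ι // p.2 ∉ Set.range J}

/-- The coordinate ring of a chart. -/
abbrev chartRing (R : Type u) [CommRing R] (J : Fin k → ι) : CommAlgCat.{u} R :=
  CommAlgCat.of R (MvPolynomial (Param J) R)

/-- A chart. -/
abbrev chartU (R : Type u) [CommRing R] (J : Fin k → ι) : Over (Spec (CommRingCat.of R)) :=
  Over.mk (Spec.map (CommRingCat.ofHom (algebraMap R (chartRing R J))))

/-- Algebra maps are points of spectra. -/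
theorem exists_wPt_eq {C A : CommAlgCat.{u} R}
    (g : Pt (Over.mk (Spec.map (CommRingCat.ofHom (algebraMap R C)))) A) :
    ∃ φ : C ⟶ A, wPt φ = g := by
  obtain ⟨ψ, hψ⟩ : ∃ ψ, Spec.map ψ = g.left := Spec.map_surjective _
  have h : Spec.map ψ ≫ Spec.map (CommRingCat.ofHom (algebraMap R C)) = Spec.map (CommRingCat.ofHom (algebraMap R A)) := by
    rw [hψ]; exact Over.w g
  rw [← Spec.map_comp] at h
  refine ⟨CommAlgCat.ofHom { ψ.hom with
    commutes' := fun r => RingHom.congr_fun (congrArg CommRingCat.Hom.hom (Spec.map_injective h)) r }, ?_⟩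
  ext1
  exact hψ

theorem wPt_injective {C A : CommAlgCat.{u} R} : Function.Injective (wPt (A := C) (B := A)) := fun φ ψ h =>
  CommAlgCat.hom_ext (AlgHom.ext fun z => RingHom.congr_fun (congrArg CommRingCat.Hom.hom
    (Spec.map_injective (congrArg CategoryTheory.Over.Hom.left h))) z)

/-- The algebra map of a point. -/
def ptHom {C A : CommAlgCat.{u} R} (g : Pt (Over.mk (Spec.map (CommRingCat.ofHom (algebraMap R C)))) A) : C ⟶ A :=
  (exists_wPt_eq g).choose

theorem wPt_ptHom {C A : CommAlgCat.{u} R} (g : Pt (Over.mk (Spec.map (CommRingCat.ofHom (algebraMap R C)))) A) :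
    wPt (ptHom g) = g := (exists_wPt_eq g).choose_spec

theorem ptHom_res {C A B : CommAlgCat.{u} R} (φ : A ⟶ B)
    (g : Pt (Over.mk (Spec.map (CommRingCat.ofHom (algebraMap R C)))) A) : ptHom (res φ g) = ptHom g ≫ φ := by
  refine wPt_injective ?_
  rw [wPt_ptHom]
  conv_lhs => rw [← wPt_ptHom g]
  ext1
  rw [res_left]
  exact (Spec.map_comp _ _).symm

open Classical in
/-- The matrix with given free coordinates. -/
def matOf (J : Fin k → ι) (hJ : Function.Injective J) {A : Type u} [CommRing A] (x : Param J → A) : Mat J A :=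
  ⟨fun a j => if h : ∃ c, J c = j then (if a = h.choose then 1 else 0) else x ⟨(a, j), fun ⟨c, hc⟩ => h ⟨c, hc⟩⟩,
    fun a c => by
      have h : ∃ c', J c' = J c := ⟨c, rfl⟩
      beta_reduce
      rw [dif_pos h, hJ h.choose_spec]⟩

theorem matOf_apply (J : Fin k → ι) (hJ : Function.Injective J) {A : Type u} [CommRing A] (x : Param J → A)
    (p : Param J) : (matOf J hJ x).1 p.1.1 p.1.2 = x p :=
  dif_neg fun ⟨c, hc⟩ => p.2 ⟨c, hc⟩

theorem matOf_surjective (J : Fin k → ι) (hJ : Function.Injective J) {A : Type u} [CommRing A] (m : Mat J A) :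
    matOf J hJ (fun p => m.1 p.1.1 p.1.2) = m := by
  classical
  refine Subtype.ext (funext fun a => funext fun j => ?_)
  by_cases h : ∃ c, J c = j
  · obtain ⟨c, rfl⟩ := h
    rw [(matOf J hJ _).2, m.2]
  · exact dif_neg h

theorem matOf_injective (J : Fin k → ι) (hJ : Function.Injective J) {A : Type u} [CommRing A] :
    Function.Injective (matOf J hJ (A := A)) := fun x y h => funext fun p => by
  rw [← matOf_apply J hJ x p, h, matOf_apply]

theorem matOf_map (J : Fin k → ι) (hJ : Function.Injective J) {A B : Type u} [CommRing A] [CommRing B]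
    [Algebra R A] [Algebra R B] (f : A →ₐ[R] B) (x : Param J → A) :
    (matOf J hJ x).map f = matOf J hJ (fun p => f (x p)) := by
  classical
  refine Subtype.ext (funext fun a => funext fun j => ?_)
  show f ((matOf J hJ x).1 a j) = _
  by_cases h : ∃ c, J c = j
  · obtain ⟨c, rfl⟩ := h
    rw [(matOf J hJ _).2, (matOf J hJ _).2]
    split_ifs <;> simp
  · simp only [matOf, dif_neg h]

variable (b : Module.Basis ι R M)

/-- The coordinates of a point of a chart. -/
def chartMat {J : Fin k → ι} (hJ : Function.Injective J) {A : CommAlgCat.{u} R} (g : Pt (chartU R J) A) : Mat J A :=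
  matOf J hJ fun p => (ptHom g).hom (MvPolynomial.X p)

theorem chartMat_bijective {J : Fin k → ι} (hJ : Function.Injective J) {A : CommAlgCat.{u} R} :
    Function.Bijective (chartMat (A := A) hJ) := by
  refine ⟨fun g g' h => ?_, fun m => ?_⟩
  · rw [← wPt_ptHom g, ← wPt_ptHom g']
    exact congrArg _ (CommAlgCat.hom_ext (MvPolynomial.algHom_ext fun p => congrFun (matOf_injective J hJ h) p))
  · let φ : chartRing R J ⟶ A := CommAlgCat.ofHom (MvPolynomial.aeval fun p => m.1 p.1.1 p.1.2)
    refine ⟨wPt φ, ?_⟩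
    have e : ptHom (wPt φ) = φ := wPt_injective (wPt_ptHom _)
    refine Eq.trans ?_ (matOf_surjective J hJ m)
    simp [chartMat, e, φ]

theorem chartMat_res {J : Fin k → ι} (hJ : Function.Injective J) {A B : CommAlgCat.{u} R} (φ : A ⟶ B)
    (g : Pt (chartU R J) A) : chartMat hJ (res φ g) = (chartMat hJ g).map φ.hom := by
  rw [chartMat, chartMat, matOf_map, ptHom_res]
  rfl

variable (k) in
/-- The standard atlas of the Grassmannian of a free module. -/
def grassAtlas : Atlas R (GrF R M k) where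
  idx := {J : Fin k → ι // Function.Injective J}
  U J := chartU R J.1
  pt J A g := ofMat b (chartMat J.2 g)
  pt_injective J A := (ofMat_injective b).comp (chartMat_bijective J.2).1
  pt_natural J A B φ g := by
    rw [chartMat_res]
    exact (map_ofMat b φ.hom _).symm
  O i j := sbo (CommRingCat.of (chartRing R i.1)) (Matrix.det (Matrix.of fun a c =>
    (matOf i.1 i.2 fun p => (MvPolynomial.X p : MvPolynomial (Param i.1) R)).1 a (j.1 c)))
  mem_O i j A g := by
    have hbij := chartMat_bijective (R := R) (A := A) j.2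
    refine Iff.trans ?_ ((basisAt_ofMat_iff b (chartMat i.2 g) j.1).symm.trans
      ((exists_ofMat_eq_iff b (J := j.1) _).symm.trans
        ⟨fun ⟨m, hm⟩ => by obtain ⟨g', rfl⟩ := hbij.2 m; exact ⟨g', hm⟩, fun ⟨g', hg'⟩ => ⟨_, hg'⟩⟩))
    set d := Matrix.det (Matrix.of fun a c =>
      (matOf i.1 i.2 fun p => (MvPolynomial.X p : MvPolynomial (Param i.1) R)).1 a (j.1 c))
    let φ := (ptHom g).hom
    have hd : φ d = Matrix.det (Matrix.of fun a c => (chartMat i.2 g).1 a (j.1 c)) := by
      rw [AlgHom.map_det]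
      congr 1
      ext a c
      show φ _ = (chartMat i.2 g).1 a (j.1 c)
      rw [chartMat, ← matOf_map i.1 i.2 φ fun p => (MvPolynomial.X p : MvPolynomial (Param i.1) R)]
      rfl
    rw [← hd]
    have hg : g.left = Spec.map (CommRingCat.ofHom φ.toRingHom) :=
      (congrArg CategoryTheory.Over.Hom.left (wPt_ptHom g)).symm
    rw [hg]
    refine ⟨fun h => ?_, fun h => ?_⟩
    · by_contra hu
      obtain ⟨m, hm, hdm⟩ := exists_max_ideal_of_mem_nonunits hu
      have := h ⟨⟨m, hm.isPrime⟩, rfl⟩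
      exact this hdm
    · rintro _ ⟨q, rfl⟩ hq
      exact q.2.ne_top (Ideal.eq_top_of_isUnit_mem _ hq h)
  locally A x := by
    have hspan : Ideal.span {f : A | ∃ J : Fin k → ι, Function.Injective J ∧
        BasisAt b (Module.Grassmannian.map (loc (R := R) A f) x) J} = ⊤ := by
      by_contra hne
      obtain ⟨m, hm, hle⟩ := Ideal.exists_le_maximal _ hne
      obtain ⟨f, hf, J, hJ, hb⟩ := exists_basisAt_away b x m
      exact hf (hle (Ideal.subset_span ⟨J, hJ, hb⟩))
    obtain ⟨s, hs, hs'⟩ := (Ideal.span_eq_top_iff_finite _).1 hspan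
    refine ⟨s, hs', fun f hf => ?_⟩
    obtain ⟨J, hJ, hb⟩ := hs hf
    obtain ⟨m, hm⟩ := exists_ofMat_eq b hb
    obtain ⟨g, rfl⟩ := (chartMat_bijective (R := R) (A := CommAlgCat.of R (Localization.Away f)) hJ).2 m
    exact ⟨⟨J, hJ⟩, g, hm⟩
  sep := grass_sep
  glue := grass_glue

theorem baseChange_ker_eq {M₂ : Type u} [AddCommGroup M₂] [Module R M₂] (v : M →ₗ[R] M₂)
    (hv : Function.Surjective v) (A : Type u) [CommRing A] [Algebra R A] :
    LinearMap.ker (v.baseChange A) =
      Submodule.span A ((fun m => (1 : A) ⊗ₜ[R] m) '' (LinearMap.ker v : Set M)) := by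
  refine le_antisymm (fun z hz => ?_) (Submodule.span_le.2 ?_)
  · have hex0 : Function.Exact (LinearMap.ker v).subtype v := fun z =>
      ⟨fun h => ⟨⟨z, h⟩, rfl⟩, by rintro ⟨y, rfl⟩; exact y.2⟩
    obtain ⟨w, rfl⟩ := ((lTensor_exact A hex0 hv) z).1 hz
    clear hz
    induction w with
    | zero => simp
    | tmul a m =>
      rw [LinearMap.lTensor_tmul, show a ⊗ₜ[R] (LinearMap.ker v).subtype m = a • ((1 : A) ⊗ₜ[R] (m : M)) by
        simp [smul_tmul']]
      exact Submodule.smul_mem _ _ (Submodule.subset_span ⟨m, m.2, rfl⟩)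
    | add x y hx hy => rw [map_add]; exact add_mem hx hy
  · rintro _ ⟨m, hm, rfl⟩
    simp [LinearMap.mem_ker.1 hm]

theorem chg_baseChange_apply {M₂ : Type u} [AddCommGroup M₂] [Module R M₂] (v : M →ₗ[R] M₂) {A B : Type u}
    [CommRing A] [CommRing B] [Algebra R A] [Algebra R B] (φ : A →ₐ[R] B) (z : A ⊗[R] M) :
    chg φ (v.baseChange A z) = v.baseChange B (chg φ z) := by
  induction z with
  | zero => simp
  | tmul a m => simp
  | add x y hx hy => simp [hx, hy]

/-- Representability passes to quotient modules. -/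
theorem exists_rep_of_surjective {M₂ : Type u} [AddCommGroup M₂] [Module R M₂] (v : M →ₗ[R] M₂)
    (hv : Function.Surjective v) (X₁ : Over (Spec (CommRingCat.of R)))
    (e₁ : ∀ A : CommAlgCat.{u} R, Pt X₁ A ≃ (GrF R M k).obj A)
    (he₁ : ∀ (A B : CommAlgCat.{u} R) (φ : A ⟶ B) (g : Pt X₁ A) (g' : Pt X₁ B),
      g'.left = Spec.map (CommRingCat.ofHom φ.hom.toRingHom) ≫ g.left →
        e₁ B g' = (GrF R M k).map φ (e₁ A g)) :
    ∃ (X₂ : Over (Spec (CommRingCat.of R))) (e₂ : ∀ A : CommAlgCat.{u} R, Pt X₂ A ≃ (GrF R M₂ k).obj A),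
      ∀ (A B : CommAlgCat.{u} R) (φ : A ⟶ B) (g : Pt X₂ A) (g' : Pt X₂ B),
        g'.left = Spec.map (CommRingCat.ofHom φ.hom.toRingHom) ≫ g.left →
          e₂ B g' = (GrF R M₂ k).map φ (e₂ A g) := by
  have hvA : ∀ A : CommAlgCat.{u} R, Function.Surjective (v.baseChange A) := fun A =>
    LinearMap.baseChange_surjective A hv
  obtain ⟨Z, ι', hι, hZ⟩ := exists_closedSubscheme_of_sets X₁ e₁ he₁
    (fun A _ => (fun m => (1 : A) ⊗ₜ[R] m) '' (LinearMap.ker v : Set M))
    (by rintro A B φ N _ ⟨_, ⟨m, hm, rfl⟩, rfl⟩; exact Submodule.subset_span ⟨m, hm, by simp⟩)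
    (by rintro A B φ N _ ⟨m, hm, rfl⟩; exact Submodule.subset_span ⟨_, ⟨m, hm, rfl⟩, by simp⟩)
  haveI := hι
  let X₂ : Over (Spec (CommRingCat.of R)) := Over.mk (ι' ≫ X₁.hom)
  let i : X₂ ⟶ X₁ := Over.homMk ι' rfl
  have hle : ∀ (A : CommAlgCat.{u} R) (g : Pt X₂ A),
      LinearMap.ker (v.baseChange A) ≤ (e₁ A (g ≫ i)).toSubmodule := fun A g => by
    rw [baseChange_ker_eq v hv]
    exact Submodule.span_le.2 ((hZ A (g ≫ i)).1 ⟨g.left, rfl⟩)
  have hpush : ∀ (A : CommAlgCat.{u} R) (g : Pt X₂ A), ∃ N₂ : (GrF R M₂ k).obj A,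
      N₂.toSubmodule = Submodule.map (v.baseChange A) (e₁ A (g ≫ i)).toSubmodule := by
    intro A g
    let N₁ := e₁ A (g ≫ i)
    let q := N₁.toSubmodule.mapQ (Submodule.map (v.baseChange A) N₁.toSubmodule) (v.baseChange A)
      (Submodule.le_comap_map _ _)
    have hq : Function.Bijective q := by
      refine ⟨?_, ?_⟩
      · rw [← LinearMap.ker_eq_bot, Submodule.eq_bot_iff]
        intro z hz
        obtain ⟨y, rfl⟩ := Submodule.mkQ_surjective _ z
        rw [LinearMap.mem_ker, Submodule.mkQ_apply, Submodule.mapQ_apply, Submodule.Quotient.mk_eq_zero] at hz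
        obtain ⟨x, hx, hxy⟩ := hz
        rw [Submodule.mkQ_apply, Submodule.Quotient.mk_eq_zero]
        have := hle A g (LinearMap.mem_ker.2 (by rw [map_sub, hxy, sub_self]) : y - x ∈ LinearMap.ker (v.baseChange A))
        simpa using add_mem this hx
      · intro z
        obtain ⟨w, rfl⟩ := Submodule.mkQ_surjective _ z
        obtain ⟨y, rfl⟩ := hvA A w
        exact ⟨Submodule.Quotient.mk y, rfl⟩
    let eq := LinearEquiv.ofBijective q hq
    exact ⟨{ toSubmodule := Submodule.map (v.baseChange A) N₁.toSubmodule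
             finite_quotient := Module.Finite.equiv eq
             projective_quotient := Module.Projective.of_equiv eq
             rankAtStalk_eq := fun p =>
               (congrFun (Module.rankAtStalk_eq_of_equiv eq.symm) p).trans (N₁.rankAtStalk_eq p) }, rfl⟩
  choose E hE using hpush
  have hcomap : ∀ (A : CommAlgCat.{u} R) (g : Pt X₂ A),
      (E A g).toSubmodule.comap (v.baseChange A) = (e₁ A (g ≫ i)).toSubmodule := fun A g => by
    rw [hE, Submodule.comap_map_eq, sup_eq_left.2 (hle A g)]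
  refine ⟨X₂, fun A => Equiv.ofBijective (E A) ⟨fun g g' h => ?_, fun N₂ => ?_⟩, fun A B φ g g' hg => ?_⟩
  · have h1 : g ≫ i = g' ≫ i := (e₁ A).injective (Module.Grassmannian.ext (by rw [← hcomap, ← hcomap, h]))
    ext1
    exact (cancel_mono ι').1 (congrArg CategoryTheory.Over.Hom.left h1)
  · let q := N₂.toSubmodule.mkQ.comp (v.baseChange A)
    have hq : Function.Surjective q := (Submodule.mkQ_surjective _).comp (hvA A)
    let eq := (Submodule.quotEquivOfEq (N₂.toSubmodule.comap (v.baseChange A)) (LinearMap.ker q)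
      (by rw [LinearMap.ker_comp, Submodule.ker_mkQ])).trans (q.quotKerEquivOfSurjective hq)
    let N₁ : (GrF R M k).obj A :=
      { toSubmodule := N₂.toSubmodule.comap (v.baseChange A)
        finite_quotient := Module.Finite.equiv eq.symm
        projective_quotient := Module.Projective.of_equiv eq.symm
        rankAtStalk_eq := fun p => (congrFun (Module.rankAtStalk_eq_of_equiv eq) p).trans (N₂.rankAtStalk_eq p) }
    obtain ⟨h, hh⟩ := (hZ A ((e₁ A).symm N₁)).2 (by
      rw [Equiv.apply_symm_apply]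
      rintro _ ⟨m, hm, rfl⟩
      simp [N₁, LinearMap.mem_ker.1 hm])
    refine ⟨Over.homMk h (by
      show h ≫ ι' ≫ X₁.hom = _
      rw [reassoc_of% hh]
      exact Over.w ((e₁ A).symm N₁)), Module.Grassmannian.ext ?_⟩
    rw [hE, show (Over.homMk h _ : Pt X₂ A) ≫ i = (e₁ A).symm N₁ by ext1; exact hh, Equiv.apply_symm_apply]
    exact Submodule.map_comap_eq_of_surjective (hvA A) _
  · show E B g' = Module.Grassmannian.map φ.hom (E A g)
    refine Module.Grassmannian.ext ?_
    rw [hE, he₁ A B φ (g ≫ i) (g' ≫ i) (by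
      show g'.left ≫ ι' = _ ≫ g.left ≫ ι'
      rw [hg, Category.assoc])]
    show Submodule.map _ (Module.Grassmannian.map φ.hom (e₁ A (g ≫ i))).toSubmodule = _
    rw [map_eq_span, map_eq_span, hE, Submodule.map_span, Submodule.map_coe, Set.image_image, Set.image_image]
    simp only [chg_baseChange_apply]

/-- The Grassmannian functor of a finitely generated module is representable. -/
theorem exists_rep (R : Type u) [CommRing R] (M : Type u) [AddCommGroup M] [Module R M] [Module.Finite R M] (k : ℕ) :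
    ∃ (X : Over (Spec (CommRingCat.of R))) (e : ∀ A : CommAlgCat.{u} R, Pt X A ≃ (GrF R M k).obj A),
      ∀ (A B : CommAlgCat.{u} R) (φ : A ⟶ B) (g : Pt X A) (g' : Pt X B),
        g'.left = Spec.map (CommRingCat.ofHom φ.hom.toRingHom) ≫ g.left →
          e B g' = (GrF R M k).map φ (e A g) := by
  obtain ⟨n, p, hp⟩ := Module.Finite.exists_fin' R M
  let v : (ULift.{u} (Fin n) → R) →ₗ[R] M := p.comp (LinearEquiv.funCongrLeft R R Equiv.ulift.symm).toLinearMap
  have hv : Function.Surjective v := hp.comp (LinearEquiv.surjective _)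
  let 𝔄 := grassAtlas k (Pi.basisFun R (ULift.{u} (Fin n)))
  exact exists_rep_of_surjective v hv 𝔄.X 𝔄.equiv fun A B φ g g' h => 𝔄.equiv_natural A B φ g g' h

end GrothLib.Grass26
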