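import Groth.Agent.Lib.Grass26.Content

/-!
# The locus of points stable under multiplication
-/

set_option autoImplicit false
universe u

noncomputable section

open TensorProduct CategoryTheory AlgebraicGeometry

namespace GrothLib.Grass26

variable {R : Type u} [CommRing R]

/-- Points of a Grassmannian of an algebra stable under left multiplication form a closed subscheme. -/
theorem exists_stable_closedSubscheme (A₀ : Type u) [Ring A₀] [Algebra R A₀] {e : ℕ}
    (X : Over (Spec (CommRingCat.of R)))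
    (eX : ∀ B : CommAlgCat.{u} R, Pt X B ≃ (Module.Grassmannian.functor (R := R) (M := A₀) e).obj B)
    (heX : ∀ (B C : CommAlgCat.{u} R) (φ : B ⟶ C) (g : Pt X B) (g' : Pt X C),
      g'.left = Spec.map (CommRingCat.ofHom φ.hom.toRingHom) ≫ g.left →
        eX C g' = (Module.Grassmannian.functor (R := R) (M := A₀) e).map φ (eX B g)) :
    ∃ (Z : Scheme.{u}) (ι : Z ⟶ X.left), IsClosedImmersion ι ∧
      ∀ (B : CommAlgCat.{u} R) (g : Pt X B),
        (∃ h : Spec (CommRingCat.of B) ⟶ Z, h ≫ ι = g.left) ↔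
          ∀ (a : A₀) (x : ↑B ⊗[R] A₀), x ∈ (eX B g).toSubmodule →
            ((1 : ↑B) ⊗ₜ[R] a) * x ∈ (eX B g).toSubmodule := by
  have hmul : ∀ (B C : CommAlgCat.{u} R) (φ : B ⟶ C) (a : A₀) (x : ↑B ⊗[R] A₀),
      chg φ.hom (((1 : ↑B) ⊗ₜ[R] a) * x) = ((1 : ↑C) ⊗ₜ[R] a) * chg φ.hom x := by
    intro B C φ a x
    induction x with
    | zero => simp
    | tmul b m => simp [Algebra.TensorProduct.tmul_mul_tmul]
    | add y z hy hz => simp [mul_add, hy, hz]
  obtain ⟨Z, ι, hι, hZ⟩ := exists_closedSubscheme_of_sets X eX heX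
    (fun B N => {z | ∃ a : A₀, ∃ x ∈ N.toSubmodule, ((1 : ↑B) ⊗ₜ[R] a) * x = z})
    (by
      rintro B C φ N _ ⟨_, ⟨a, x, hx, rfl⟩, rfl⟩
      refine Submodule.subset_span ⟨a, chg φ.hom x, ?_, (hmul B C φ a x).symm⟩
      rw [map_eq_span]
      exact Submodule.subset_span ⟨x, hx, rfl⟩)
    (by
      rintro B C φ N _ ⟨a, y, hy, rfl⟩
      rw [map_eq_span] at hy
      induction hy using Submodule.span_induction with
      | mem z hz =>
        obtain ⟨x, hx, rfl⟩ := hz
        exact Submodule.subset_span ⟨_, ⟨a, x, hx, rfl⟩, hmul B C φ a x⟩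
      | zero => simp
      | add y z _ _ hy hz => rw [mul_add]; exact add_mem hy hz
      | smul c z _ hz => rw [mul_smul_comm]; exact Submodule.smul_mem _ _ hz)
  exact ⟨Z, ι, hι, fun B g => (hZ B g).trans
    ⟨fun h a x hx => h ⟨a, x, hx, rfl⟩, fun h => by rintro _ ⟨a, x, hx, rfl⟩; exact h a x hx⟩⟩

/-- Restriction of Grassmannian points along a surjection is a closed immersion. -/
theorem isClosedImmersion_comap {M₁ M₂ : Type u} [AddCommGroup M₁] [Module R M₁] [AddCommGroup M₂] [Module R M₂]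
    (v : M₁ →ₗ[R] M₂) (hv : Function.Surjective v) {k : ℕ} (X₁ X₂ : Over (Spec (CommRingCat.of R)))
    (e₁ : ∀ A : CommAlgCat.{u} R, Pt X₁ A ≃ (Module.Grassmannian.functor (R := R) (M := M₁) k).obj A)
    (he₁ : ∀ (A B : CommAlgCat.{u} R) (φ : A ⟶ B) (g : Pt X₁ A) (g' : Pt X₁ B),
      g'.left = Spec.map (CommRingCat.ofHom φ.hom.toRingHom) ≫ g.left →
        e₁ B g' = (Module.Grassmannian.functor (R := R) (M := M₁) k).map φ (e₁ A g))
    (e₂ : ∀ A : CommAlgCat.{u} R, Pt X₂ A ≃ (Module.Grassmannian.functor (R := R) (M := M₂) k).obj A)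
    (he₂ : ∀ (A B : CommAlgCat.{u} R) (φ : A ⟶ B) (g : Pt X₂ A) (g' : Pt X₂ B),
      g'.left = Spec.map (CommRingCat.ofHom φ.hom.toRingHom) ≫ g.left →
        e₂ B g' = (Module.Grassmannian.functor (R := R) (M := M₂) k).map φ (e₂ A g)) :
    (∃ c : X₂ ⟶ X₁, ∀ (A : CommAlgCat.{u} R) (g : Pt X₂ A),
        (e₁ A (g ≫ c)).toSubmodule = (e₂ A g).toSubmodule.comap (v.baseChange A)) ∧
      ∀ c : X₂ ⟶ X₁, (∀ (A : CommAlgCat.{u} R) (g : Pt X₂ A),
        (e₁ A (g ≫ c)).toSubmodule = (e₂ A g).toSubmodule.comap (v.baseChange A)) →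
        IsClosedImmersion c.left := by
  have hvA : ∀ A : CommAlgCat.{u} R, Function.Surjective (v.baseChange A) := fun A =>
    LinearMap.baseChange_surjective A hv
  have hker : ∀ A : CommAlgCat.{u} R, LinearMap.ker (v.baseChange A) =
      Submodule.span A ((fun m => (1 : A) ⊗ₜ[R] m) '' (LinearMap.ker v : Set M₁)) := by
    intro A
    refine le_antisymm (fun z hz => ?_) (Submodule.span_le.2 ?_)
    · have hex0 : Function.Exact (LinearMap.ker v).subtype v := fun z =>
        ⟨fun h => ⟨⟨z, h⟩, rfl⟩, by rintro ⟨y, rfl⟩; exact y.2⟩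
      obtain ⟨w, rfl⟩ := ((lTensor_exact (A : Type u) hex0 hv) z).1 hz
      clear hz
      induction w with
      | zero => simp
      | tmul a m =>
        rw [LinearMap.lTensor_tmul, show a ⊗ₜ[R] (LinearMap.ker v).subtype m = a • ((1 : A) ⊗ₜ[R] (m : M₁)) by
          simp [smul_tmul']]
        exact Submodule.smul_mem _ _ (Submodule.subset_span ⟨m, m.2, rfl⟩)
      | add x y hx hy => rw [map_add]; exact add_mem hx hy
    · rintro _ ⟨m, hm, rfl⟩
      simp [LinearMap.mem_ker.1 hm]
  have hchg : ∀ (A B : CommAlgCat.{u} R) (φ : A ⟶ B) (z : ↑A ⊗[R] M₁),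
      chg φ.hom (v.baseChange A z) = v.baseChange B (chg φ.hom z) := by
    intro A B φ z
    induction z with
    | zero => simp
    | tmul a m => simp
    | add x y hx hy => simp [hx, hy]
  let down : ∀ A : CommAlgCat.{u} R, Pt X₂ A → Module.Grassmannian A (↑A ⊗[R] M₁) k := fun A g =>
    letI q := (e₂ A g).toSubmodule.mkQ.comp (v.baseChange A)
    haveI hq : Function.Surjective q := (Submodule.mkQ_surjective _).comp (hvA A)
    haveI eq := ((Submodule.quotEquivOfEq ((e₂ A g).toSubmodule.comap (v.baseChange A)) (LinearMap.ker q)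
      (by rw [LinearMap.ker_comp, Submodule.ker_mkQ])).trans (q.quotKerEquivOfSurjective hq))
    { toSubmodule := (e₂ A g).toSubmodule.comap (v.baseChange A)
      finite_quotient := Module.Finite.equiv eq.symm
      projective_quotient := Module.Projective.of_equiv eq.symm
      rankAtStalk_eq := fun p => (congrFun (Module.rankAtStalk_eq_of_equiv eq) p).trans ((e₂ A g).rankAtStalk_eq p) }
  have hdown : ∀ (A B : CommAlgCat.{u} R) (φ : A ⟶ B) (g : Pt X₂ A) (g' : Pt X₂ B),
      g'.left = Spec.map (CommRingCat.ofHom φ.hom.toRingHom) ≫ g.left →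
        (down B g').toSubmodule = (Module.Grassmannian.map φ.hom (down A g)).toSubmodule := by
    intro A B φ g g' hg
    show (e₂ B g').toSubmodule.comap _ = _
    rw [he₂ A B φ g g' hg]
    show (Module.Grassmannian.map φ.hom (e₂ A g)).toSubmodule.comap _ = _
    rw [map_eq_span, map_eq_span]
    refine le_antisymm (fun z hz => ?_) (Submodule.span_le.2 ?_)
    · have hle : Submodule.span B (chg φ.hom '' ((e₂ A g).toSubmodule : Set (↑A ⊗[R] M₂))) ≤
          Submodule.map (v.baseChange B) (Submodule.span B (chg φ.hom '' ((down A g).toSubmodule : Set (↑A ⊗[R] M₁)))) := by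
        refine Submodule.span_le.2 ?_
        rintro _ ⟨w, hw, rfl⟩
        obtain ⟨y, rfl⟩ := hvA A w
        exact ⟨chg φ.hom y, Submodule.subset_span ⟨y, hw, rfl⟩, (hchg A B φ y).symm⟩
      obtain ⟨y, hy, hyz⟩ := hle hz
      have hk : z - y ∈ LinearMap.ker (v.baseChange B) := by rw [LinearMap.mem_ker, map_sub, hyz, sub_self]
      have hks : LinearMap.ker (v.baseChange B) ≤
          Submodule.span B (chg φ.hom '' ((down A g).toSubmodule : Set (↑A ⊗[R] M₁))) := by
        rw [hker]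
        refine Submodule.span_le.2 ?_
        rintro _ ⟨m, hm, rfl⟩
        refine Submodule.subset_span ⟨(1 : A) ⊗ₜ m, ?_, by simp⟩
        simp [down, LinearMap.mem_ker.1 hm]
      simpa using add_mem (hks hk) hy
    · rintro _ ⟨y, hy, rfl⟩
      simp only [SetLike.mem_coe, Submodule.mem_comap]
      rw [← hchg]
      exact Submodule.subset_span ⟨_, hy, rfl⟩
  obtain ⟨c, hc⟩ := exists_hom_of_points (X := X₂) (Y := X₁) (fun A g => (e₁ A).symm (down A g))
    (fun A B φ g g' hg => by
      let w : Over.mk (Spec.map (CommRingCat.ofHom (algebraMap R B))) ⟶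
          Over.mk (Spec.map (CommRingCat.ofHom (algebraMap R A))) :=
        Over.homMk (Spec.map (CommRingCat.ofHom φ.hom.toRingHom)) (by
          show Spec.map _ ≫ Spec.map _ = Spec.map _
          rw [← Spec.map_comp, ← CommRingCat.ofHom_comp]
          exact congrArg (fun g => Spec.map (CommRingCat.ofHom g)) φ.hom.comp_algebraMap)
      have h1 : (e₁ B).symm (down B g') = w ≫ (e₁ A).symm (down A g) := by
        refine (e₁ B).injective ?_
        rw [Equiv.apply_symm_apply, he₁ A B φ ((e₁ A).symm (down A g)) (w ≫ (e₁ A).symm (down A g)) rfl,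
          Equiv.apply_symm_apply]
        exact Module.Grassmannian.ext (hdown A B φ g g' hg)
      rw [h1]
      rfl)
  have hc' : ∀ (A : CommAlgCat.{u} R) (g : Pt X₂ A),
      (e₁ A (g ≫ c)).toSubmodule = (e₂ A g).toSubmodule.comap (v.baseChange A) := fun A g => by
    rw [hc, Equiv.apply_symm_apply]
  refine ⟨⟨c, hc'⟩, fun c' hc'' => ?_⟩
  obtain rfl : c' = c := hom_ext_of_points fun A g => (e₁ A).injective (Module.Grassmannian.ext
    ((hc'' A g).trans (hc' A g).symm))
  obtain ⟨Z, ι, hι, hZ⟩ := exists_closedSubscheme_of_sets X₁ e₁ he₁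
    (fun A _ => (fun m => (1 : A) ⊗ₜ[R] m) '' (LinearMap.ker v : Set M₁))
    (by rintro A B φ N _ ⟨_, ⟨m, hm, rfl⟩, rfl⟩; exact Submodule.subset_span ⟨m, hm, by simp⟩)
    (by rintro A B φ N _ ⟨m, hm, rfl⟩; exact Submodule.subset_span ⟨_, ⟨m, hm, rfl⟩, by simp⟩)
  haveI := hι
  let ZX : Over (Spec (CommRingCat.of R)) := Over.mk (ι ≫ X₁.hom)
  let iZ : ZX ⟶ X₁ := Over.homMk ι rfl
  -- points of the closed locus
  have hup : ∀ (A : CommAlgCat.{u} R) (g : Pt ZX A), ∃ g₂ : Pt X₂ A, g₂ ≫ c' = g ≫ iZ := by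
    intro A g
    let N₁ := e₁ A (g ≫ iZ)
    have hk : LinearMap.ker (v.baseChange A) ≤ N₁.toSubmodule := by
      rw [hker]
      exact Submodule.span_le.2 ((hZ A (g ≫ iZ)).1 ⟨g.left, rfl⟩)
    let q := N₁.toSubmodule.mapQ (Submodule.map (v.baseChange A) N₁.toSubmodule) (v.baseChange A)
      (Submodule.le_comap_map _ _)
    have hq : Function.Bijective q := by
      refine ⟨?_, ?_⟩
      · rw [← LinearMap.ker_eq_bot, Submodule.eq_bot_iff]
        intro z hz
        obtain ⟨y, rfl⟩ := Submodule.mkQ_surjective _ z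
        rw [LinearMap.mem_ker, Submodule.mkQ_apply, Submodule.mapQ_apply, Submodule.Quotient.mk_eq_zero] at hz
        obtain ⟨x, hx, hxy⟩ := hz
        rw [Submodule.mkQ_apply, Submodule.Quotient.mk_eq_zero]
        have := hk (LinearMap.mem_ker.2 (by rw [map_sub, hxy, sub_self]) : y - x ∈ LinearMap.ker (v.baseChange A))
        simpa using add_mem this hx
      · intro z
        obtain ⟨w, rfl⟩ := Submodule.mkQ_surjective _ z
        obtain ⟨y, rfl⟩ := hvA A w
        exact ⟨Submodule.Quotient.mk y, rfl⟩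
    let eq := LinearEquiv.ofBijective q hq
    let N₂ : Module.Grassmannian A (↑A ⊗[R] M₂) k :=
      { toSubmodule := Submodule.map (v.baseChange A) N₁.toSubmodule
        finite_quotient := Module.Finite.equiv eq
        projective_quotient := Module.Projective.of_equiv eq
        rankAtStalk_eq := fun p =>
          (congrFun (Module.rankAtStalk_eq_of_equiv eq.symm) p).trans (N₁.rankAtStalk_eq p) }
    refine ⟨(e₂ A).symm N₂, (e₁ A).injective (Module.Grassmannian.ext ?_)⟩
    rw [hc', Equiv.apply_symm_apply]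
    exact (Submodule.comap_map_eq _ _).trans (sup_eq_left.2 hk)
  have hfac : ∀ (A : CommAlgCat.{u} R) (g : Pt X₂ A), ∃ g₁ : Pt ZX A, g₁ ≫ iZ = g ≫ c' := by
    intro A g
    obtain ⟨h, hh⟩ := (hZ A (g ≫ c')).2 (by
      rw [hc']
      rintro _ ⟨m, hm, rfl⟩
      simp [LinearMap.mem_ker.1 hm])
    refine ⟨Over.homMk h ?_, by ext1; exact hh⟩
    show h ≫ ι ≫ X₁.hom = _
    rw [reassoc_of% hh]
    exact Over.w (g ≫ c')
  have hcinj : ∀ (A : CommAlgCat.{u} R) (g g' : Pt X₂ A), g ≫ c' = g' ≫ c' → g = g' := fun A g g' h =>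
    (e₂ A).injective (Module.Grassmannian.ext (Submodule.comap_injective_of_surjective (hvA A) (by
      rw [← hc' A g, h, hc' A g'])))
  have hiinj : ∀ (A : CommAlgCat.{u} R) (g g' : Pt ZX A), g ≫ iZ = g' ≫ iZ → g = g' := fun A g g' h => by
    ext1
    exact (cancel_mono ι).1 (congrArg CategoryTheory.Over.Hom.left h)
  choose G₂ hG₂ using hup
  choose G₁ hG₁ using hfac
  have nat : ∀ {A B : CommAlgCat.{u} R} (φ : A ⟶ B) {W : Over (Spec (CommRingCat.of R))} (x : Pt W A) (x' : Pt W B),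
      x'.left = Spec.map (CommRingCat.ofHom φ.hom.toRingHom) ≫ x.left →
      ∃ w : Over.mk (Spec.map (CommRingCat.ofHom (algebraMap R B))) ⟶
          Over.mk (Spec.map (CommRingCat.ofHom (algebraMap R A))),
        w.left = Spec.map (CommRingCat.ofHom φ.hom.toRingHom) ∧ x' = w ≫ x := by
    intro A B φ W x x' h
    refine ⟨Over.homMk (Spec.map (CommRingCat.ofHom φ.hom.toRingHom)) ?_, rfl, by ext1; exact h⟩
    show Spec.map _ ≫ Spec.map _ = Spec.map _
    rw [← Spec.map_comp, ← CommRingCat.ofHom_comp]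
    exact congrArg (fun g => Spec.map (CommRingCat.ofHom g)) φ.hom.comp_algebraMap
  obtain ⟨a, ha⟩ := exists_hom_of_points G₁ fun A B φ x x' h => by
    obtain ⟨w, hw, rfl⟩ := nat φ x x' h
    rw [hiinj B (G₁ B (w ≫ x)) (w ≫ G₁ A x) (by rw [hG₁, Category.assoc, Category.assoc, hG₁]), Over.comp_left, hw]
  obtain ⟨b, hb⟩ := exists_hom_of_points G₂ fun A B φ x x' h => by
    obtain ⟨w, hw, rfl⟩ := nat φ x x' h
    rw [hcinj B (G₂ B (w ≫ x)) (w ≫ G₂ A x) (by rw [hG₂, Category.assoc, Category.assoc, hG₂]), Over.comp_left, hw]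
  haveI : IsIso a := ⟨b, hom_ext_of_points fun A g => hcinj A _ _ (by rw [← Category.assoc, ha, hb, hG₂, hG₁,
      Category.comp_id]), hom_ext_of_points fun A g => hiinj A _ _ (by rw [← Category.assoc, hb, ha, hG₁, hG₂,
      Category.comp_id])⟩
  have hfin : c' = a ≫ iZ := hom_ext_of_points fun A g => by rw [← Category.assoc, ha, hG₁]
  haveI : IsIso a.left := inferInstanceAs (IsIso ((Over.forget _).map a))
  rw [hfin, Over.comp_left]
  show IsClosedImmersion (a.left ≫ ι)
  infer_instance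

end GrothLib.Grass26
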