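import Groth.Agent.Lib.Grass26.Rep
import Groth.Agent.Lib.JacLocus.Basic
import Mathlib.AlgebraicGeometry.AffineSpace
import Mathlib.AlgebraicGeometry.Morphisms.Smooth

/-!
# Charts of the Grassmannian of a free module are affine spaces
-/

set_option autoImplicit false
set_option linter.style.haveILetI false
universe u

noncomputable section

open TensorProduct CategoryTheory AlgebraicGeometry

namespace GrothLib.Grass26

variable {R : Type u} [CommRing R]

/-- Schemes representing the same functor are isomorphic. -/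
theorem exists_iso_of_equiv {F : CommAlgCat.{u} R ⥤ Type u} {X X' : Over (Spec (CommRingCat.of R))}
    (e : ∀ A, Pt X A ≃ F.obj A) (e' : ∀ A, Pt X' A ≃ F.obj A)
    (he : ∀ (A B : CommAlgCat.{u} R) (φ : A ⟶ B) (g : Pt X A) (g' : Pt X B),
      g'.left = Spec.map (CommRingCat.ofHom φ.hom.toRingHom) ≫ g.left → e B g' = F.map φ (e A g))
    (he' : ∀ (A B : CommAlgCat.{u} R) (φ : A ⟶ B) (g : Pt X' A) (g' : Pt X' B),
      g'.left = Spec.map (CommRingCat.ofHom φ.hom.toRingHom) ≫ g.left → e' B g' = F.map φ (e' A g)) :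
    ∃ θ : X ≅ X', ∀ A (g : Pt X A), e' A (g ≫ θ.hom) = e A g := by
  have nat : ∀ {Y Y' : Over (Spec (CommRingCat.of R))} (f : ∀ A, Pt Y A ≃ F.obj A) (f' : ∀ A, Pt Y' A ≃ F.obj A),
      (∀ (A B : CommAlgCat.{u} R) (φ : A ⟶ B) (g : Pt Y A) (g' : Pt Y B),
        g'.left = Spec.map (CommRingCat.ofHom φ.hom.toRingHom) ≫ g.left → f B g' = F.map φ (f A g)) →
      (∀ (A B : CommAlgCat.{u} R) (φ : A ⟶ B) (g : Pt Y' A) (g' : Pt Y' B),
        g'.left = Spec.map (CommRingCat.ofHom φ.hom.toRingHom) ≫ g.left → f' B g' = F.map φ (f' A g)) →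
      ∃ θ : Y ⟶ Y', ∀ A (g : Pt Y A), g ≫ θ = (f' A).symm (f A g) := by
    intro Y Y' f f' hf hf'
    refine exists_hom_of_points (fun A g => (f' A).symm (f A g)) fun A B φ x x' hx => ?_
    have h : (f' B).symm (f B x') = res φ ((f' A).symm (f A x)) := (f' B).injective (by
      rw [Equiv.apply_symm_apply, hf' A B φ _ (res φ _) rfl, Equiv.apply_symm_apply, hf A B φ x x' hx])
    exact congrArg CategoryTheory.Over.Hom.left h
  obtain ⟨a, ha⟩ := nat e e' he he'
  obtain ⟨b, hb⟩ := nat e' e he' he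
  refine ⟨⟨a, b, hom_ext_of_points fun A g => ?_, hom_ext_of_points fun A g => ?_⟩, fun A g => by
    rw [ha, Equiv.apply_symm_apply]⟩
  · rw [← Category.assoc, ha, hb, Equiv.apply_symm_apply, Equiv.symm_apply_apply, Category.comp_id]
  · rw [← Category.assoc, hb, ha, Equiv.apply_symm_apply, Equiv.symm_apply_apply, Category.comp_id]

theorem mvPolynomial_standardSmooth (A : Type u) [CommRing A] (r : ℕ) :
    Algebra.IsStandardSmoothOfRelativeDimension r A (MvPolynomial (Fin r) A) := by
  let v : Fin 0 → MvPolynomial (Fin r) A := finZeroElim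
  have h := GrothLib.JacLocus.isStandardSmooth_localization v finZeroElim (fun i => i.elim0)
  rw [Nat.sub_zero] at h
  let Q := MvPolynomial (Fin r) A ⧸ Ideal.span (Set.range v)
  have h1 : (Matrix.of fun i j => MvPolynomial.pderiv ((finZeroElim : Fin 0 → Fin r) i) (v j)).det = 1 :=
    Matrix.det_fin_zero
  rw [h1, map_one] at h
  haveI := h
  have hb : Ideal.span (Set.range v) = ⊥ := by simp
  exact Algebra.IsStandardSmoothOfRelativeDimension.of_algEquiv r
    (((IsLocalization.atOne Q (Localization.Away (1 : Q))).restrictScalars A).symm.trans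
      ((Ideal.quotientEquivAlgOfEq A hb).trans (AlgEquiv.quotientBot A _)))

theorem smoothOfRelativeDimension_polynomial (σ : Type u) (r : ℕ) (e : σ ≃ Fin r) :
    SmoothOfRelativeDimension r
      (Spec.map (CommRingCat.ofHom (algebraMap R (MvPolynomial σ R)))) := by
  rw [HasRingHomProperty.Spec_iff (P := @SmoothOfRelativeDimension r)]
  refine RingHom.locally_of RingHom.isStandardSmoothOfRelativeDimension_respectsIso _ ?_
  haveI := mvPolynomial_standardSmooth R r
  haveI : Algebra.IsStandardSmoothOfRelativeDimension r R (MvPolynomial σ R) :=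
    Algebra.IsStandardSmoothOfRelativeDimension.of_algEquiv r (MvPolynomial.renameEquiv R e).symm
  exact (RingHom.isStandardSmoothOfRelativeDimension_algebraMap r).2 this

/-- The polynomial chart is an affine space. -/
theorem exists_iso_affineSpace (σ τ : Type u) (e : σ ≃ τ) :
    Nonempty (Over.mk (Spec.map (CommRingCat.ofHom (algebraMap R (MvPolynomial σ R)))) ≅
      Over.mk (𝔸(τ; Spec (CommRingCat.of R)) ↘ Spec (CommRingCat.of R))) := by
  let a : CommRingCat.of (MvPolynomial τ R) ≅ CommRingCat.of (MvPolynomial σ R) :=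
    (MvPolynomial.renameEquiv R e.symm).toRingEquiv.toCommRingCatIso
  refine ⟨Over.isoMk (Scheme.Spec.mapIso a.op ≪≫ (AffineSpace.SpecIso τ (CommRingCat.of R)).symm) ?_⟩
  show (Spec.map a.hom ≫ (AffineSpace.SpecIso τ (CommRingCat.of R)).inv) ≫ _ = _
  rw [Category.assoc]
  show Spec.map a.hom ≫ (AffineSpace.SpecIso τ (CommRingCat.of R)).inv ≫ (𝔸(τ; Spec (CommRingCat.of R)) ↘ Spec (CommRingCat.of R)) = _
  rw [AffineSpace.SpecIso_inv_over, ← Spec.map_comp]
  congr 1
  refine CommRingCat.hom_ext (RingHom.ext fun r => ?_)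
  exact MvPolynomial.rename_C _ r

end GrothLib.Grass26
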