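import Groth.Agent.Lib.Grass26.Content
import Mathlib.LinearAlgebra.Matrix.NonsingularInverse
import Mathlib.LinearAlgebra.TensorProduct.Basis
import Mathlib.RingTheory.Flat.LocallyFree
import Mathlib.RingTheory.LocalRing.Module

/-!
# Charts of the Grassmannian of a free module
-/

set_option autoImplicit false
set_option linter.style.haveILetI false
universe u

noncomputable section

open TensorProduct Module

namespace GrothLib.Grass26

variable {R : Type u} [CommRing R] {M : Type u} [AddCommGroup M] [Module R M]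
  {ι : Type u} (b : Basis ι R M) {k : ℕ}
  {A B : Type u} [CommRing A] [CommRing B] [Algebra R A] [Algebra R B]

@[simp] theorem chg_baseChange (f : A →ₐ[R] B) (j : ι) : chg f (b.baseChange A j) = b.baseChange B j := by
  simp

/-- The map from free coordinates at `J` to the quotient. -/
def lin (N : Module.Grassmannian A (A ⊗[R] M) k) (J : Fin k → ι) :
    (Fin k → A) →ₗ[A] (A ⊗[R] M) ⧸ N.toSubmodule :=
  Fintype.linearCombination A fun a => N.toSubmodule.mkQ (b.baseChange A (J a))

theorem lin_apply (N : Module.Grassmannian A (A ⊗[R] M) k) (J : Fin k → ι) (c : Fin k → A) :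
    lin b N J c = N.toSubmodule.mkQ (∑ a, c a • b.baseChange A (J a)) := by
  simp [lin, Fintype.linearCombination_apply, map_sum]

/-- The basis vectors at `J` give a basis of the quotient. -/
def BasisAt (N : Module.Grassmannian A (A ⊗[R] M) k) (J : Fin k → ι) : Prop :=
  Function.Surjective (lin b N J)

theorem BasisAt.bijective {N : Module.Grassmannian A (A ⊗[R] M) k} {J : Fin k → ι} (h : BasisAt b N J) :
    Function.Bijective (lin b N J) := by
  refine bijective_of_surjective_of_rankAtStalk_eq h fun m hm => ?_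
  haveI : Nontrivial A := ⟨⟨0, 1, fun e => hm.ne_top ((Ideal.eq_top_iff_one _).2 (e ▸ m.zero_mem))⟩⟩
  rw [N.rankAtStalk_eq, Module.rankAtStalk_eq_finrank_of_free]
  simp

/-- Coordinates in the chart at `J`. -/
def Mat (J : Fin k → ι) (A : Type u) [CommRing A] : Type u :=
  {m : Fin k → ι → A // ∀ a c, m a (J c) = if a = c then 1 else 0}

variable {J : Fin k → ι}

/-- The projection of a chart point. -/
def proj (m : Mat J A) : A ⊗[R] M →ₗ[A] (Fin k → A) := (b.baseChange A).constr A fun j a => m.1 a j

@[simp] theorem proj_basis (m : Mat J A) (j : ι) : proj b m (b.baseChange A j) = fun a => m.1 a j :=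
  Basis.constr_basis _ _ _ _

@[simp] theorem proj_tmul (m : Mat J A) (j : ι) : proj b m ((1 : A) ⊗ₜ[R] b j) = fun a => m.1 a j := by
  rw [← Basis.baseChange_apply]; exact proj_basis b m j

theorem proj_sum (m : Mat J A) (c : Fin k → A) : proj b m (∑ a, c a • b.baseChange A (J a)) = c := by
  ext a'
  simp [map_sum, m.2]

/-- The generators of the kernel. -/
def kerGen (m : Mat J A) (j : ι) : A ⊗[R] M :=
  b.baseChange A j - ∑ a, m.1 a j • b.baseChange A (J a)

theorem proj_kerGen (m : Mat J A) (j : ι) : proj b m (kerGen b m j) = 0 := by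
  rw [kerGen, map_sub, proj_sum, proj_basis, sub_self]

theorem sub_sum_mem_span (m : Mat J A) (z : A ⊗[R] M) :
    z - ∑ a, proj b m z a • b.baseChange A (J a) ∈ Submodule.span A (Set.range (kerGen b m)) := by
  have hz : z ∈ Submodule.span A (Set.range (b.baseChange A)) := by rw [Basis.span_eq]; trivial
  induction hz using Submodule.span_induction with
  | mem x hx =>
    obtain ⟨j, rfl⟩ := hx
    refine Submodule.subset_span ⟨j, ?_⟩
    simp [kerGen]
  | zero => simp
  | add x y _ _ hx hy =>
    simp only [map_add, Pi.add_apply, add_smul, Finset.sum_add_distrib]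
    rw [add_sub_add_comm]
    exact add_mem hx hy
  | smul c x _ hx =>
    simp only [map_smul, Pi.smul_apply, smul_eq_mul, mul_smul, ← Finset.smul_sum, ← smul_sub]
    exact Submodule.smul_mem _ c hx

theorem ker_proj (m : Mat J A) : LinearMap.ker (proj b m) = Submodule.span A (Set.range (kerGen b m)) := by
  refine le_antisymm (fun z hz => ?_) (Submodule.span_le.2 ?_)
  · simpa [LinearMap.mem_ker.1 hz] using sub_sum_mem_span b m z
  · rintro _ ⟨j, rfl⟩
    exact LinearMap.mem_ker.2 (proj_kerGen b m j)

/-- The point of the Grassmannian with given coordinates. -/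
def ofMat (m : Mat J A) : Module.Grassmannian A (A ⊗[R] M) k :=
  haveI e := (proj b m).quotKerEquivOfSurjective fun c => ⟨_, proj_sum b m c⟩
  { toSubmodule := LinearMap.ker (proj b m)
    finite_quotient := Module.Finite.equiv e.symm
    projective_quotient := Module.Projective.of_equiv e.symm
    rankAtStalk_eq := fun p => by
      haveI : Nontrivial A := ⟨⟨0, 1, fun h => p.2.ne_top ((Ideal.eq_top_iff_one _).2 (h ▸ p.1.zero_mem))⟩⟩
      rw [Module.rankAtStalk_eq_of_equiv e, Module.rankAtStalk_eq_finrank_of_free]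
      simp }

theorem ofMat_toSubmodule (m : Mat J A) : (ofMat b m).toSubmodule = LinearMap.ker (proj b m) := rfl

theorem ofMat_injective : Function.Injective (ofMat b (J := J) (A := A)) := by
  intro m m' h
  refine Subtype.ext (funext fun a => funext fun j => ?_)
  have h' : kerGen b m j ∈ LinearMap.ker (proj b m') := by
    rw [← ofMat_toSubmodule, ← h]
    exact LinearMap.mem_ker.2 (proj_kerGen b m j)
  rw [LinearMap.mem_ker, kerGen, map_sub, proj_sum, proj_basis, sub_eq_zero] at h'
  exact (congrFun h' a).symm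

/-- Functoriality of coordinates. -/
def Mat.map (f : A →ₐ[R] B) (m : Mat J A) : Mat J B :=
  ⟨fun a j => f (m.1 a j), fun a c => by show f (m.1 a (J c)) = _; rw [m.2]; split_ifs <;> simp⟩

theorem map_ofMat (f : A →ₐ[R] B) (m : Mat J A) : Module.Grassmannian.map f (ofMat b m) = ofMat b (m.map f) := by
  refine Module.Grassmannian.ext ?_
  have hk : ∀ j, chg f (kerGen b m j) = kerGen b (m.map f) j := fun j => by
    simp only [kerGen, map_sub, map_sum, chg_smul, chg_baseChange]
    rfl
  rw [map_eq_span, ofMat_toSubmodule, ofMat_toSubmodule, ker_proj, ker_proj]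
  refine le_antisymm (Submodule.span_le.2 ?_) (Submodule.span_le.2 ?_)
  · rintro _ ⟨z, hz, rfl⟩
    rw [SetLike.mem_coe] at hz ⊢
    induction hz using Submodule.span_induction with
    | mem x hx => obtain ⟨j, rfl⟩ := hx; exact Submodule.subset_span ⟨j, (hk j).symm⟩
    | zero => simp
    | add x y _ _ hx hy => rw [map_add]; exact add_mem hx hy
    | smul c x _ hx => rw [chg_smul]; exact Submodule.smul_mem _ _ hx
  · rintro _ ⟨j, rfl⟩
    exact Submodule.subset_span ⟨_, Submodule.subset_span ⟨j, rfl⟩, hk j⟩

theorem exists_ofMat_eq {N : Module.Grassmannian A (A ⊗[R] M) k} (h : BasisAt b N J) :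
    ∃ m : Mat J A, ofMat b m = N := by
  classical
  let e := LinearEquiv.ofBijective (lin b N J) (BasisAt.bijective b h)
  have he : ∀ c, e.symm (N.toSubmodule.mkQ (b.baseChange A (J c))) = fun a => if a = c then 1 else 0 := by
    intro c
    rw [LinearEquiv.symm_apply_eq]
    show _ = lin b N J _
    rw [lin_apply]
    refine congrArg _ ?_
    simp
  let m : Mat J A := ⟨fun a j => e.symm (N.toSubmodule.mkQ (b.baseChange A j)) a, fun a c => congrFun (he c) a⟩
  have hproj : proj b m = e.symm.toLinearMap.comp N.toSubmodule.mkQ :=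
    (b.baseChange A).ext fun j => by rw [proj_basis]; rfl
  refine ⟨m, Module.Grassmannian.ext ?_⟩
  rw [ofMat_toSubmodule, hproj, LinearEquiv.ker_comp, Submodule.ker_mkQ]

theorem basisAt_ofMat_iff (m : Mat J A) (J' : Fin k → ι) :
    BasisAt b (ofMat b m) J' ↔ IsUnit (Matrix.det (Matrix.of fun a c => m.1 a (J' c))) := by
  rw [← Matrix.isUnit_iff_isUnit_det, ← Matrix.mulVec_surjective_iff_isUnit]
  have key : ∀ c, proj b m (∑ a, c a • b.baseChange A (J' a)) = (Matrix.of fun a c => m.1 a (J' c)).mulVec c := by
    intro c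
    ext a
    simp [map_sum, Matrix.mulVec, dotProduct, mul_comm]
  refine ⟨fun h v => ?_, fun h x => ?_⟩
  · obtain ⟨c, hc⟩ := h ((ofMat b m).toSubmodule.mkQ (∑ a, v a • b.baseChange A (J a)))
    refine ⟨c, ?_⟩
    rw [lin_apply, Submodule.mkQ_apply, Submodule.mkQ_apply, Submodule.Quotient.eq, ofMat_toSubmodule,
      LinearMap.mem_ker, map_sub, sub_eq_zero, key, proj_sum] at hc
    exact hc
  · obtain ⟨z, rfl⟩ := Submodule.mkQ_surjective _ x
    obtain ⟨c, hc⟩ := h (proj b m z)
    refine ⟨c, ?_⟩
    rw [lin_apply, Submodule.mkQ_apply, Submodule.mkQ_apply, Submodule.Quotient.eq, ofMat_toSubmodule,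
      LinearMap.mem_ker, map_sub, sub_eq_zero, key, hc]

theorem basisAt_ofMat_self (m : Mat J A) : BasisAt b (ofMat b m) J := by
  rw [basisAt_ofMat_iff]
  have : (Matrix.of fun a c => m.1 a (J c)) = 1 := by ext a c; simp [Matrix.one_apply, m.2]
  simp [this]

theorem exists_ofMat_eq_iff (N : Module.Grassmannian A (A ⊗[R] M) k) :
    (∃ m : Mat J A, ofMat b m = N) ↔ BasisAt b N J :=
  ⟨fun ⟨m, hm⟩ => hm ▸ basisAt_ofMat_self b m, exists_ofMat_eq b⟩

/-- A point has a basis among the given basis vectors near every prime. -/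
theorem exists_basisAt_away (N : Module.Grassmannian A (A ⊗[R] M) k) (p : Ideal A) [p.IsPrime] :
    ∃ f : A, f ∉ p ∧ ∃ J : Fin k → ι, Function.Injective J ∧
      BasisAt b (Module.Grassmannian.map (IsScalarTower.toAlgHom R A (Localization.Away f)) N) J := by
  classical
  let Q := (A ⊗[R] M) ⧸ N.toSubmodule
  let Ap := Localization.AtPrime p
  let Qp := LocalizedModule p.primeCompl Q
  let g : Q →ₗ[A] Qp := LocalizedModule.mkLinearMap p.primeCompl Q
  let v : ι → Qp := fun j => g (N.toSubmodule.mkQ (b.baseChange A j))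
  haveI : Module.FinitePresentation A Q := Module.finitePresentation_of_projective A Q
  haveI : Module.Finite Ap Qp := Module.Finite.of_isLocalizedModule p.primeCompl g
  haveI : Module.Projective Ap Qp := Module.projective_of_isLocalizedModule p.primeCompl g
  haveI : Module.FinitePresentation Ap Qp := Module.finitePresentation_of_projective Ap Qp
  have hQ : Submodule.span A (Set.range fun j => N.toSubmodule.mkQ (b.baseChange A j)) = ⊤ := by
    rw [show (fun j => N.toSubmodule.mkQ (b.baseChange A j)) = N.toSubmodule.mkQ ∘ (b.baseChange A) from rfl,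
      Set.range_comp, Submodule.span_image, Basis.span_eq, Submodule.map_top, Submodule.range_mkQ]
  have hv : Submodule.span Ap (Set.range v) = ⊤ := by
    have := span_eq_top_of_isLocalizedModule Ap p.primeCompl g hQ
    rwa [← Set.range_comp] at this
  obtain ⟨κ, σ, bp, hbp⟩ := Module.exists_basis_of_span_of_flat v hv
  haveI : Fintype κ := by
    haveI := Module.Finite.finite_basis bp
    exact Fintype.ofFinite κ
  have hcard : Fintype.card κ = k := by
    rw [← Module.finrank_eq_card_basis bp]
    exact N.rankAtStalk_eq ⟨p, ‹_›⟩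
  let e : Fin k ≃ κ := (Fintype.equivFinOfCardEq hcard).symm
  let J : Fin k → ι := σ ∘ e
  have hJ : Function.Injective J := fun a c h => e.injective (bp.injective (by
    rw [hbp, hbp]; exact congrArg v h))
  -- the cokernel of `lin` dies at `p`
  have hj : ∀ z : A ⊗[R] M, ∃ s : A, s ∉ p ∧ s • N.toSubmodule.mkQ z ∈ LinearMap.range (lin b N J) := by
    intro z
    let T : Set Q := Set.range fun a => N.toSubmodule.mkQ (b.baseChange A (J a))
    have hmem : g (N.toSubmodule.mkQ z) ∈ Submodule.localized' Ap p.primeCompl g (Submodule.span A T) := by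
      rw [Submodule.localized'_span, ← Set.range_comp]
      have hr : Set.range bp ⊆ Set.range (g ∘ fun a => N.toSubmodule.mkQ (b.baseChange A (J a))) := by
        rintro _ ⟨i, rfl⟩
        exact ⟨e.symm i, by simp [J, v, hbp]⟩
      exact Submodule.span_mono hr (bp.span_eq ▸ Submodule.mem_top)
    obtain ⟨q, hq, s, hs⟩ := hmem
    rw [IsLocalizedModule.mk'_eq_iff, Submonoid.smul_def, ← map_smul, IsLocalizedModule.eq_iff_exists p.primeCompl] at hs
    obtain ⟨s', hs'⟩ := hs
    refine ⟨(s' : A) * (s : A), p.primeCompl.mul_mem s'.2 s.2, ?_⟩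
    rw [mul_smul, Submonoid.smul_def, Submonoid.smul_def] at *
    rw [← hs', lin, Fintype.range_linearCombination]
    exact Submodule.smul_mem _ _ hq
  obtain ⟨n, π, hπ⟩ := Module.Finite.exists_fin' A Q
  choose w hw using fun i : Fin n => Submodule.mkQ_surjective _ (π (Pi.single i 1))
  choose s hs hs' using fun i : Fin n => hj (w i)
  refine ⟨∏ j, s j, fun h => ?_, J, hJ, ?_⟩
  · obtain ⟨j, -, hj⟩ := (‹p.IsPrime›).prod_mem_iff.1 h
    exact hs j hj
  · set f := ∏ j, s j with hf
    let B := Localization.Away f
    let φ : A →ₐ[R] B := IsScalarTower.toAlgHom R A B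
    let N' := Module.Grassmannian.map φ N
    have hu : IsUnit (φ f) := IsLocalization.Away.algebraMap_isUnit f
    let S := (LinearMap.range (lin b N' J)).comap N'.toSubmodule.mkQ
    have hN : ∀ z ∈ N.toSubmodule, chg φ z ∈ S := fun z hz => by
      have : chg φ z ∈ N'.toSubmodule := by rw [map_eq_span]; exact Submodule.subset_span ⟨z, hz, rfl⟩
      rw [Submodule.mem_comap, Submodule.mkQ_apply, (Submodule.Quotient.mk_eq_zero _).2 this]
      exact zero_mem _
    have hgen : ∀ i, chg φ (w i) ∈ S := by
      intro i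
      obtain ⟨c, hc⟩ := hs' i
      have h0 : chg φ (∑ a, c a • b.baseChange A (J a) - s i • w i) ∈ N'.toSubmodule := by
        rw [map_eq_span]
        refine Submodule.subset_span ⟨_, ?_, rfl⟩
        rw [SetLike.mem_coe, ← Submodule.Quotient.eq, ← Submodule.mkQ_apply, ← Submodule.mkQ_apply, ← lin_apply, hc,
          map_smul]
      have hsu : IsUnit (φ (s i)) := by
        have hu : IsUnit (φ (∏ i, s i)) := hu
        rw [map_prod] at hu
        exact (IsUnit.prod_iff.1 hu) i (Finset.mem_univ _)
      obtain ⟨v', hv'⟩ := hsu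
      refine Submodule.mem_comap.2 ⟨fun a => (↑v'⁻¹ : B) * φ (c a), ?_⟩
      rw [lin_apply, Submodule.mkQ_apply, Submodule.mkQ_apply, Submodule.Quotient.eq]
      have := N'.toSubmodule.smul_mem (↑v'⁻¹ : B) h0
      simpa [map_sum, chg_smul, smul_sub, Finset.smul_sum, smul_smul, ← hv'] using this
    have hall : ∀ z, chg φ z ∈ S := by
      intro z
      obtain ⟨c, hc⟩ := hπ (N.toSubmodule.mkQ z)
      have hz : z - ∑ i, c i • w i ∈ N.toSubmodule := by
        rw [← Submodule.Quotient.eq, ← Submodule.mkQ_apply, ← Submodule.mkQ_apply, ← hc, map_sum]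
        conv_lhs => rw [pi_eq_sum_univ' c, map_sum]
        exact Finset.sum_congr rfl fun i _ => by rw [map_smul, map_smul, hw]
      have := add_mem (hN _ hz) (show chg φ (∑ i, c i • w i) ∈ S by
        rw [map_sum]
        exact Submodule.sum_mem _ fun i _ => by rw [chg_smul]; exact Submodule.smul_mem _ _ (hgen i))
      rwa [← map_add, sub_add_cancel] at this
    have htop : ∀ z : B ⊗[R] M, z ∈ S := by
      intro z
      induction z with
      | zero => exact zero_mem _
      | tmul x m =>
        have := Submodule.smul_mem S x (hall ((1 : A) ⊗ₜ[R] m))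
        rwa [chg_tmul, map_one, TensorProduct.smul_tmul', smul_eq_mul, mul_one] at this
      | add x y hx hy => exact add_mem hx hy
    intro x
    obtain ⟨z, rfl⟩ := Submodule.mkQ_surjective _ x
    exact htop z

end GrothLib.Grass26
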