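import Groth.Agent.Lib.Grass26.Points
import Mathlib.AlgebraicGeometry.Gluing
import Mathlib.AlgebraicGeometry.Cover.Open

/-!
# Representing a functor on algebras by gluing charts
-/

set_option autoImplicit false
set_option linter.style.haveILetI false
universe u

noncomputable section

open CategoryTheory CategoryTheory.Limits AlgebraicGeometry Opposite TopologicalSpace

namespace GrothLib.Grass26

variable {R : Type u} [CommRing R]

/-- The morphism of spectra attached to a map of algebras, over the base. -/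
def wPt {A B : CommAlgCat.{u} R} (φ : A ⟶ B) :
    Over.mk (Spec.map (CommRingCat.ofHom (algebraMap R B))) ⟶
      Over.mk (Spec.map (CommRingCat.ofHom (algebraMap R A))) :=
  Over.homMk (Spec.map (CommRingCat.ofHom φ.hom.toRingHom)) (by
    show Spec.map _ ≫ Spec.map _ = Spec.map _
    rw [← Spec.map_comp, ← CommRingCat.ofHom_comp]
    exact congrArg (fun g => Spec.map (CommRingCat.ofHom g)) φ.hom.comp_algebraMap)

/-- Restriction of an affine point. -/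
def res {X : Over (Spec (CommRingCat.of R))} {A B : CommAlgCat.{u} R} (φ : A ⟶ B) (x : Pt X A) : Pt X B :=
  wPt φ ≫ x

theorem res_left {X : Over (Spec (CommRingCat.of R))} {A B : CommAlgCat.{u} R} (φ : A ⟶ B) (x : Pt X A) :
    (res φ x).left = Spec.map (CommRingCat.ofHom φ.hom.toRingHom) ≫ x.left := rfl

theorem res_comp {X Y : Over (Spec (CommRingCat.of R))} {A B : CommAlgCat.{u} R} (φ : A ⟶ B) (x : Pt X A)
    (f : X ⟶ Y) : res φ x ≫ f = res φ (x ≫ f) := Category.assoc _ _ _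

theorem res_res {X : Over (Spec (CommRingCat.of R))} {A B C : CommAlgCat.{u} R} (φ : A ⟶ B) (ψ : B ⟶ C)
    (x : Pt X A) : res ψ (res φ x) = res (φ ≫ ψ) x := by
  ext1
  rw [res_left, res_left, res_left, ← Category.assoc, ← Spec.map_comp]
  rfl

/-- The localisation map. -/
def awayHom (A : CommAlgCat.{u} R) (f : A) : A ⟶ CommAlgCat.of R (Localization.Away f) :=
  CommAlgCat.ofHom (IsScalarTower.toAlgHom R A (Localization.Away f))

/-- A scheme is covered by its affine points. -/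
theorem exists_pt {X : Over (Spec (CommRingCat.of R))} (p : X.left) :
    ∃ (A : CommAlgCat.{u} R) (x : Pt X A), p ∈ Set.range x.left := by
  obtain ⟨V, hV, hpV, -⟩ := exists_isAffineOpen_mem_and_subset (x := p) (U := ⊤) trivial
  obtain ⟨ρ, hρ⟩ : ∃ ρ, Spec.map ρ = hV.fromSpec ≫ X.hom := Spec.map_surjective _
  letI : Algebra R Γ(X.left, V) := ρ.hom.toAlgebra
  exact ⟨CommAlgCat.of R Γ(X.left, V), Over.homMk hV.fromSpec hρ.symm, hV.range_fromSpec.ge hpV⟩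

variable (R) in
/-- Charts for a functor on algebras. -/
structure Atlas (F : CommAlgCat.{u} R ⥤ Type u) where
  /-- The index type. -/
  idx : Type u
  /-- The charts. -/
  U : idx → Over (Spec (CommRingCat.of R))
  /-- The value at a point of a chart. -/
  pt : ∀ i A, Pt (U i) A → F.obj A
  pt_injective : ∀ i A, Function.Injective (pt i A)
  pt_natural : ∀ i A B (φ : A ⟶ B) (g : Pt (U i) A), pt i B (res φ g) = F.map φ (pt i A g)
  /-- The overlaps. -/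
  O : ∀ i _j : idx, (U i).left.Opens
  mem_O : ∀ i j A (g : Pt (U i) A), Set.range g.left ⊆ (O i j : Set (U i).left) ↔ ∃ g', pt j A g' = pt i A g
  locally : ∀ (A : CommAlgCat.{u} R) (x : F.obj A), ∃ s : Finset A, Ideal.span (s : Set A) = ⊤ ∧
    ∀ f ∈ s, ∃ i g, pt i (CommAlgCat.of R (Localization.Away f)) g = F.map (awayHom A f) x
  sep : ∀ (A : CommAlgCat.{u} R) (s : Set A), Ideal.span s = ⊤ → ∀ x y : F.obj A,
    (∀ f ∈ s, F.map (awayHom A f) x = F.map (awayHom A f) y) → x = y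
  glue : ∀ (A : CommAlgCat.{u} R) (s : Finset A), Ideal.span (s : Set A) = ⊤ →
    ∀ (x : ∀ f : s, F.obj (CommAlgCat.of R (Localization.Away f.1))),
      (∀ (f h : s) (B : CommAlgCat.{u} R) (φ : CommAlgCat.of R (Localization.Away f.1) ⟶ B)
        (ψ : CommAlgCat.of R (Localization.Away h.1) ⟶ B), awayHom A f.1 ≫ φ = awayHom A h.1 ≫ ψ →
          F.map φ (x f) = F.map ψ (x h)) →
      ∃ y : F.obj A, ∀ f : s, F.map (awayHom A f.1) y = x f

namespace Atlas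

variable {F : CommAlgCat.{u} R ⥤ Type u} (𝔄 : Atlas R F)

/-- The overlap as a scheme over the base. -/
def W (i j : 𝔄.idx) : Over (Spec (CommRingCat.of R)) := Over.mk ((𝔄.O i j).ι ≫ (𝔄.U i).hom)

/-- The inclusion of the overlap. -/
def w (i j : 𝔄.idx) : 𝔄.W i j ⟶ 𝔄.U i := Over.homMk (𝔄.O i j).ι rfl

instance (i j : 𝔄.idx) : IsOpenImmersion (𝔄.w i j).left := inferInstanceAs (IsOpenImmersion (𝔄.O i j).ι)

theorem exists_change (i j : 𝔄.idx) : ∃ s : 𝔄.W i j ⟶ 𝔄.U j,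
    ∀ A (x : Pt (𝔄.W i j) A), 𝔄.pt j A (x ≫ s) = 𝔄.pt i A (x ≫ 𝔄.w i j) := by
  have h : ∀ A (x : Pt (𝔄.W i j) A), ∃ g', 𝔄.pt j A g' = 𝔄.pt i A (x ≫ 𝔄.w i j) := fun A x =>
    (𝔄.mem_O i j A _).1 (by
      rintro _ ⟨p, rfl⟩
      show (𝔄.O i j).ι (x.left p) ∈ _
      exact (x.left p).2)
  choose G hG using h
  obtain ⟨s, hs⟩ := exists_hom_of_points G fun A B φ x x' hx => by
    obtain rfl : x' = res φ x := by ext1; exact hx
    rw [← res_left]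
    refine congrArg CategoryTheory.Over.Hom.left (𝔄.pt_injective j B ?_)
    rw [hG, 𝔄.pt_natural, hG, ← 𝔄.pt_natural, res_comp]
  exact ⟨s, fun A x => by rw [hs, hG]⟩

/-- The change of chart. -/
def s (i j : 𝔄.idx) : 𝔄.W i j ⟶ 𝔄.U j := (𝔄.exists_change i j).choose

theorem pt_s (i j : 𝔄.idx) {A : CommAlgCat.{u} R} (x : Pt (𝔄.W i j) A) :
    𝔄.pt j A (x ≫ 𝔄.s i j) = 𝔄.pt i A (x ≫ 𝔄.w i j) := (𝔄.exists_change i j).choose_spec A x

theorem range_subset {Y : Over (Spec (CommRingCat.of R))} {i j : 𝔄.idx} (f : Y ⟶ 𝔄.U i)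
    (h : ∀ A (x : Pt Y A), ∃ g', 𝔄.pt j A g' = 𝔄.pt i A (x ≫ f)) :
    Set.range f.left ⊆ Set.range (𝔄.O i j).ι := by
  rw [Scheme.Opens.range_ι]
  rintro _ ⟨p, rfl⟩
  obtain ⟨A, x, q, rfl⟩ := exists_pt p
  exact (𝔄.mem_O i j A (x ≫ f)).2 (h A x) ⟨q, rfl⟩

theorem range_s (i j : 𝔄.idx) : Set.range (𝔄.s i j).left ⊆ Set.range (𝔄.O j i).ι :=
  𝔄.range_subset _ fun _ x => ⟨x ≫ 𝔄.w i j, (𝔄.pt_s i j x).symm⟩

/-- The transition map. -/
def t (i j : 𝔄.idx) : (𝔄.O i j).toScheme ⟶ (𝔄.O j i).toScheme :=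
  IsOpenImmersion.lift (𝔄.O j i).ι (𝔄.s i j).left (𝔄.range_s i j)

theorem t_ι (i j : 𝔄.idx) : 𝔄.t i j ≫ (𝔄.O j i).ι = (𝔄.s i j).left := IsOpenImmersion.lift_fac _ _ _

theorem s_self (i : 𝔄.idx) : 𝔄.s i i = 𝔄.w i i :=
  hom_ext_of_points fun A x => 𝔄.pt_injective i A (𝔄.pt_s i i x)

theorem O_self (i : 𝔄.idx) : 𝔄.O i i = ⊤ := by
  refine top_le_iff.1 fun p _ => ?_
  obtain ⟨A, x, hp⟩ := exists_pt p
  exact (𝔄.mem_O i i A x).2 ⟨x, rfl⟩ hp

/-- Triple overlaps. -/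
def P (i j k : 𝔄.idx) : Over (Spec (CommRingCat.of R)) :=
  Over.mk (pullback.fst (𝔄.O i j).ι (𝔄.O i k).ι ≫ (𝔄.W i j).hom)

/-- First projection. -/
def q₁ (i j k : 𝔄.idx) : 𝔄.P i j k ⟶ 𝔄.W i j := Over.homMk (pullback.fst (𝔄.O i j).ι (𝔄.O i k).ι) rfl

/-- Second projection. -/
def q₂ (i j k : 𝔄.idx) : 𝔄.P i j k ⟶ 𝔄.W i k := Over.homMk (pullback.snd (𝔄.O i j).ι (𝔄.O i k).ι) (by
  show pullback.snd (𝔄.O i j).ι (𝔄.O i k).ι ≫ (𝔄.O i k).ι ≫ (𝔄.U i).hom =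
    pullback.fst (𝔄.O i j).ι (𝔄.O i k).ι ≫ (𝔄.O i j).ι ≫ (𝔄.U i).hom
  exact (pullback.condition_assoc _).symm)

theorem q_w (i j k : 𝔄.idx) : 𝔄.q₁ i j k ≫ 𝔄.w i j = 𝔄.q₂ i j k ≫ 𝔄.w i k := by
  ext1
  exact pullback.condition

theorem range_q (i j k : 𝔄.idx) : Set.range (𝔄.q₁ i j k ≫ 𝔄.s i j).left ⊆ Set.range (𝔄.O j k).ι :=
  𝔄.range_subset _ fun A x => ⟨(x ≫ 𝔄.q₂ i j k) ≫ 𝔄.s i k, by
    rw [𝔄.pt_s, Category.assoc, ← q_w, ← Category.assoc x (𝔄.q₁ i j k) (𝔄.s i j), 𝔄.pt_s, Category.assoc]⟩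

/-- The map of triple overlaps. -/
def t' (i j k : 𝔄.idx) : pullback (𝔄.O i j).ι (𝔄.O i k).ι ⟶ pullback (𝔄.O j k).ι (𝔄.O j i).ι :=
  pullback.lift (IsOpenImmersion.lift (𝔄.O j k).ι (𝔄.q₁ i j k ≫ 𝔄.s i j).left (𝔄.range_q i j k))
    (pullback.fst _ _ ≫ 𝔄.t i j) (by
      rw [IsOpenImmersion.lift_fac, Category.assoc, t_ι]
      rfl)

theorem t'_fst (i j k : 𝔄.idx) :
    𝔄.t' i j k ≫ pullback.fst (𝔄.O j k).ι (𝔄.O j i).ι ≫ (𝔄.O j k).ι = (𝔄.q₁ i j k ≫ 𝔄.s i j).left := by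
  rw [t', pullback.lift_fst_assoc]
  exact IsOpenImmersion.lift_fac _ _ _

/-- The map of triple overlaps over the base. -/
def T (i j k : 𝔄.idx) : 𝔄.P i j k ⟶ 𝔄.P j k i := Over.homMk (𝔄.t' i j k) (by
  show 𝔄.t' i j k ≫ pullback.fst (𝔄.O j k).ι (𝔄.O j i).ι ≫ (𝔄.O j k).ι ≫ (𝔄.U j).hom = _
  rw [← Category.assoc (pullback.fst _ _), ← Category.assoc, t'_fst]
  exact Over.w (𝔄.q₁ i j k ≫ 𝔄.s i j))

theorem pt_T (i j k : 𝔄.idx) {A : CommAlgCat.{u} R} (x : Pt (𝔄.P i j k) A) :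
    𝔄.pt j A ((x ≫ 𝔄.T i j k) ≫ 𝔄.q₁ j k i ≫ 𝔄.w j k) = 𝔄.pt i A (x ≫ 𝔄.q₁ i j k ≫ 𝔄.w i j) := by
  have e : 𝔄.T i j k ≫ 𝔄.q₁ j k i ≫ 𝔄.w j k = 𝔄.q₁ i j k ≫ 𝔄.s i j := by
    ext1
    exact 𝔄.t'_fst i j k
  rw [Category.assoc, e, ← Category.assoc, 𝔄.pt_s, Category.assoc]

theorem T_cocycle (i j k : 𝔄.idx) : 𝔄.T i j k ≫ 𝔄.T j k i ≫ 𝔄.T k i j = 𝟙 _ := by
  haveI : Mono ((𝔄.q₁ i j k ≫ 𝔄.w i j).left) := by
    show Mono (pullback.fst (𝔄.O i j).ι (𝔄.O i k).ι ≫ (𝔄.O i j).ι)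
    infer_instance
  haveI : Mono (𝔄.q₁ i j k ≫ 𝔄.w i j) := (Over.forget _).mono_of_mono_map ‹_›
  rw [← cancel_mono (𝔄.q₁ i j k ≫ 𝔄.w i j), Category.id_comp]
  refine hom_ext_of_points fun A x => 𝔄.pt_injective i A ?_
  rw [show x ≫ (𝔄.T i j k ≫ 𝔄.T j k i ≫ 𝔄.T k i j) ≫ 𝔄.q₁ i j k ≫ 𝔄.w i j =
    (((x ≫ 𝔄.T i j k) ≫ 𝔄.T j k i) ≫ 𝔄.T k i j) ≫ 𝔄.q₁ i j k ≫ 𝔄.w i j by simp only [Category.assoc],
    pt_T, pt_T, pt_T]

/-- The gluing data. -/
def glueData : Scheme.GlueData.{u} where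
  J := 𝔄.idx
  U i := (𝔄.U i).left
  V := fun (i, j) => (𝔄.O i j).toScheme
  f i j := (𝔄.O i j).ι
  f_id i := by
    have : IsIso (𝔄.O i i).ι := by rw [O_self]; exact inferInstanceAs (IsIso (𝔄.U i).left.topIso.hom)
    exact this
  t := 𝔄.t
  t_id i := by
    rw [← cancel_mono (𝔄.O i i).ι, t_ι, Category.id_comp, s_self]
    rfl
  t' := 𝔄.t'
  t_fac i j k := by
    rw [t', pullback.lift_snd]
  cocycle i j k := congrArg CategoryTheory.Over.Hom.left (𝔄.T_cocycle i j k)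
  f_open i j := inferInstanceAs (IsOpenImmersion (𝔄.O i j).ι)

/-- The structure map. -/
def toBase : 𝔄.glueData.glued ⟶ Spec (CommRingCat.of R) :=
  Multicoequalizer.desc _ _ (fun i => (𝔄.U i).hom) (by
    rintro ⟨i, j⟩
    show (𝔄.O i j).ι ≫ (𝔄.U i).hom = (𝔄.t i j ≫ (𝔄.O j i).ι) ≫ (𝔄.U j).hom
    rw [t_ι]
    exact (Over.w (𝔄.s i j)).symm)

/-- The glued scheme over the base. -/
def X : Over (Spec (CommRingCat.of R)) := Over.mk 𝔄.toBase

/-- The chart inclusion. -/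
def c (i : 𝔄.idx) : 𝔄.U i ⟶ 𝔄.X := Over.homMk (𝔄.glueData.ι i) (Multicoequalizer.π_desc _ _ _ _ _)

instance (i : 𝔄.idx) : IsOpenImmersion (𝔄.c i).left := inferInstanceAs (IsOpenImmersion (𝔄.glueData.ι i))

theorem w_c (i j : 𝔄.idx) : 𝔄.w i j ≫ 𝔄.c i = 𝔄.s i j ≫ 𝔄.c j := by
  ext1
  show (𝔄.O i j).ι ≫ 𝔄.glueData.ι i = (𝔄.s i j).left ≫ 𝔄.glueData.ι j
  rw [← t_ι]
  exact (𝔄.glueData.glue_condition i j).symm.trans (Category.assoc _ _ _).symm

theorem comp_c_eq_iff {i j : 𝔄.idx} {A : CommAlgCat.{u} R} (g : Pt (𝔄.U i) A) (g' : Pt (𝔄.U j) A) :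
    g ≫ 𝔄.c i = g' ≫ 𝔄.c j ↔ 𝔄.pt i A g = 𝔄.pt j A g' := by
  refine ⟨fun h => ?_, fun h => ?_⟩
  · have h' : g.left ≫ 𝔄.glueData.ι i = g'.left ≫ 𝔄.glueData.ι j := congrArg CategoryTheory.Over.Hom.left h
    obtain ⟨l, h1, h2⟩ := PullbackCone.IsLimit.lift' (𝔄.glueData.vPullbackConeIsLimit i j) g.left g'.left h'
    change l ≫ (𝔄.O i j).ι = g.left at h1
    change l ≫ 𝔄.t i j ≫ (𝔄.O j i).ι = g'.left at h2
    have h2' : l ≫ (𝔄.s i j).left = g'.left := (congrArg (l ≫ ·) (𝔄.t_ι i j)).symm.trans h2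
    let x : Pt (𝔄.W i j) A := Over.homMk l (by
      show l ≫ (𝔄.O i j).ι ≫ (𝔄.U i).hom = _
      rw [reassoc_of% h1]
      exact Over.w g)
    rw [show g = x ≫ 𝔄.w i j by ext1; exact h1.symm, show g' = x ≫ 𝔄.s i j by ext1; exact h2'.symm, pt_s]
  · have hr : Set.range g.left ⊆ Set.range (𝔄.O i j).ι := by
      rw [Scheme.Opens.range_ι]
      exact (𝔄.mem_O i j A g).2 ⟨g', h.symm⟩
    let l : _ ⟶ (𝔄.O i j).toScheme := IsOpenImmersion.lift (𝔄.O i j).ι g.left hr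
    have hl : l ≫ (𝔄.O i j).ι = g.left := IsOpenImmersion.lift_fac _ _ _
    let x : Pt (𝔄.W i j) A := Over.homMk l (by
      show l ≫ (𝔄.O i j).ι ≫ (𝔄.U i).hom = _
      rw [reassoc_of% hl]
      exact Over.w g)
    have hx : x ≫ 𝔄.w i j = g := by ext1; exact hl
    have hx' : x ≫ 𝔄.s i j = g' := 𝔄.pt_injective j A (by rw [pt_s, hx, h])
    rw [← hx, ← hx', Category.assoc, Category.assoc, w_c]

theorem exists_c (p : 𝔄.X.left) : ∃ i, p ∈ Set.range (𝔄.c i).left := by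
  obtain ⟨i, q, hq⟩ := 𝔄.glueData.ι_jointly_surjective p
  exact ⟨i, q, hq⟩

theorem exists_cover {A : CommAlgCat.{u} R} (x : Pt 𝔄.X A) : ∃ s : Finset A, Ideal.span (s : Set A) = ⊤ ∧
    ∀ f ∈ s, ∃ i g, g ≫ 𝔄.c i = res (awayHom A f) x := by
  have hcov : Ideal.span {f : A | ∃ i, Set.range (res (awayHom A f) x).left ⊆ Set.range (𝔄.c i).left} = ⊤ := by
    rw [← PrimeSpectrum.iSup_basicOpen_eq_top_iff']
    refine top_le_iff.1 fun p _ => ?_
    obtain ⟨i, hi⟩ := 𝔄.exists_c (x.left p)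
    obtain ⟨_, ⟨_, ⟨f, rfl⟩, rfl⟩, hpf, hf⟩ := PrimeSpectrum.isBasis_basic_opens.exists_subset_of_mem_open
      (show p ∈ x.left ⁻¹ᵁ (𝔄.c i).left.opensRange from hi) (x.left ⁻¹ᵁ (𝔄.c i).left.opensRange).isOpen
    refine Opens.mem_iSup.2 ⟨f, Opens.mem_iSup.2 ⟨⟨i, ?_⟩, hpf⟩⟩
    rintro _ ⟨q, rfl⟩
    exact hf ((PrimeSpectrum.localization_away_comap_range (Localization.Away f) f).le ⟨q, rfl⟩)
  obtain ⟨s, hs, hs'⟩ := (Ideal.span_eq_top_iff_finite _).1 hcov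
  refine ⟨s, hs', fun f hf => ?_⟩
  obtain ⟨i, hi⟩ := hs hf
  refine ⟨i, Over.homMk (IsOpenImmersion.lift (𝔄.c i).left _ hi) ?_, by
    ext1; exact IsOpenImmersion.lift_fac _ _ _⟩
  rw [← Over.w (𝔄.c i), IsOpenImmersion.lift_fac_assoc]
  exact Over.w (res (awayHom A f) x)

/-- The value at a point of the glued scheme. -/
def IsVal {A : CommAlgCat.{u} R} (x : Pt 𝔄.X A) (y : F.obj A) : Prop :=
  ∀ i (B : CommAlgCat.{u} R) (φ : A ⟶ B) (g : Pt (𝔄.U i) B), g ≫ 𝔄.c i = res φ x → 𝔄.pt i B g = F.map φ y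

theorem exists_away_lift {A B : CommAlgCat.{u} R} (φ : A ⟶ B) (f : A) :
    ∃ ψ : CommAlgCat.of R (Localization.Away f) ⟶ CommAlgCat.of R (Localization.Away (φ.hom f)),
      awayHom A f ≫ ψ = φ ≫ awayHom B (φ.hom f) := by
  have hu : IsUnit ((algebraMap B (Localization.Away (φ.hom f))).comp φ.hom.toRingHom f) :=
    IsLocalization.Away.algebraMap_isUnit (φ.hom f)
  let l : Localization.Away f →+* Localization.Away (φ.hom f) := IsLocalization.Away.lift f hu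
  have hl : ∀ z, l (algebraMap A _ z) = algebraMap B (Localization.Away (φ.hom f)) (φ.hom z) :=
    IsLocalization.Away.lift_eq f hu
  let ψ : Localization.Away f →ₐ[R] Localization.Away (φ.hom f) :=
    { l with
      commutes' := fun r => by
        show l (algebraMap R (Localization.Away f) r) = algebraMap R (Localization.Away (φ.hom f)) r
        rw [IsScalarTower.algebraMap_apply R A (Localization.Away f), hl, φ.hom.commutes,
          ← IsScalarTower.algebraMap_apply] }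
  exact ⟨CommAlgCat.ofHom ψ, CommAlgCat.hom_ext (AlgHom.ext hl)⟩

theorem span_image_eq_top {A B : CommAlgCat.{u} R} (φ : A ⟶ B) {s : Set A} (hs : Ideal.span s = ⊤) :
    Ideal.span (φ.hom '' s) = ⊤ :=
  (Ideal.map_span φ.hom.toRingHom s).symm.trans (by rw [hs, Ideal.map_top])

theorem existsUnique_isVal {A : CommAlgCat.{u} R} (x : Pt 𝔄.X A) : ∃! y, 𝔄.IsVal x y := by
  obtain ⟨s, hs, hg⟩ := 𝔄.exists_cover x
  choose i g hg using hg
  have hcompat : ∀ (f h : s) (B : CommAlgCat.{u} R) (φ : CommAlgCat.of R (Localization.Away f.1) ⟶ B)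
      (ψ : CommAlgCat.of R (Localization.Away h.1) ⟶ B), awayHom A f.1 ≫ φ = awayHom A h.1 ≫ ψ →
        F.map φ (𝔄.pt _ _ (g f.1 f.2)) = F.map ψ (𝔄.pt _ _ (g h.1 h.2)) := by
    intro f h B φ ψ e
    rw [← 𝔄.pt_natural, ← 𝔄.pt_natural, ← comp_c_eq_iff, res_comp, res_comp, hg, hg, res_res, res_res, e]
  obtain ⟨y, hy⟩ := 𝔄.glue A s hs (fun f => 𝔄.pt _ _ (g f.1 f.2)) hcompat
  refine ⟨y, fun j B φ g' hg' => ?_, fun y' hy' => ?_⟩
  · refine 𝔄.sep B _ (span_image_eq_top φ hs) _ _ ?_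
    rintro _ ⟨f, hf, rfl⟩
    obtain ⟨ψ, hψ⟩ := exists_away_lift φ f
    rw [← Functor.map_comp_apply, ← hψ, Functor.map_comp_apply, hy ⟨f, hf⟩, ← 𝔄.pt_natural, ← 𝔄.pt_natural,
      ← comp_c_eq_iff, res_comp, res_comp, hg', hg, res_res, res_res, hψ]
  · refine 𝔄.sep A _ hs _ _ fun f hf => ?_
    exact (hy' _ _ (awayHom A f) (g f hf) (hg f hf)).symm.trans (hy ⟨f, hf⟩).symm

/-- The value at a point. -/
def val {A : CommAlgCat.{u} R} (x : Pt 𝔄.X A) : F.obj A := (𝔄.existsUnique_isVal x).choose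

theorem isVal_val {A : CommAlgCat.{u} R} (x : Pt 𝔄.X A) : 𝔄.IsVal x (𝔄.val x) :=
  (𝔄.existsUnique_isVal x).choose_spec.1

theorem val_res {A B : CommAlgCat.{u} R} (φ : A ⟶ B) (x : Pt 𝔄.X A) : 𝔄.val (res φ x) = F.map φ (𝔄.val x) := by
  refine ((𝔄.existsUnique_isVal (res φ x)).unique (𝔄.isVal_val _) fun i C ψ g hg => ?_)
  rw [← Functor.map_comp_apply]
  exact 𝔄.isVal_val x i C (φ ≫ ψ) g (by rw [hg, res_res])

theorem val_c {A : CommAlgCat.{u} R} (i : 𝔄.idx) (g : Pt (𝔄.U i) A) : 𝔄.val (g ≫ 𝔄.c i) = 𝔄.pt i A g := by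
  have h := 𝔄.isVal_val (g ≫ 𝔄.c i) i A (𝟙 A) g (by
    ext1
    rw [res_left]
    simp)
  rw [h, Functor.map_id_apply]

theorem openCover_away (A : CommAlgCat.{u} R) (s : Finset A) (hs : Ideal.span (s : Set A) = ⊤)
    {Y : Scheme.{u}} {a b : Spec (CommRingCat.of A) ⟶ Y}
    (h : ∀ f ∈ s, Spec.map (CommRingCat.ofHom (awayHom A f).hom.toRingHom) ≫ a =
      Spec.map (CommRingCat.ofHom (awayHom A f).hom.toRingHom) ≫ b) : a = b :=
  (Scheme.affineOpenCoverOfSpanRangeEqTop (R := CommRingCat.of A) (fun f : s => (f.1 : A))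
    (by rw [show Set.range (fun f : s => (f.1 : A)) = (s : Set A) from Subtype.range_coe_subtype]; exact hs)
      ).openCover.hom_ext _ _ fun f => h f.1 f.2

theorem val_injective {A : CommAlgCat.{u} R} (x x' : Pt 𝔄.X A) (h : 𝔄.val x = 𝔄.val x') : x = x' := by
  obtain ⟨s, hs, hg⟩ := 𝔄.exists_cover x
  choose i g hg using hg
  ext1
  refine openCover_away A s hs fun f hf => ?_
  obtain ⟨s', hs', hg'⟩ := 𝔄.exists_cover (res (awayHom A f) x')
  refine openCover_away _ s' hs' fun f' hf' => ?_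
  obtain ⟨j, g', hg'⟩ := hg' f' hf'
  let ψ := awayHom (CommAlgCat.of R (Localization.Away f)) f'
  have key : res ψ (g f hf) ≫ 𝔄.c (i f hf) = g' ≫ 𝔄.c j := by
    rw [comp_c_eq_iff, 𝔄.pt_natural, ← val_c, ← val_c, hg, hg', val_res, val_res, val_res, h]
  rw [res_comp, hg, hg'] at key
  exact congrArg CategoryTheory.Over.Hom.left key

theorem val_surjective {A : CommAlgCat.{u} R} (y : F.obj A) : ∃ x : Pt 𝔄.X A, 𝔄.val x = y := by
  obtain ⟨s, hs, hg⟩ := 𝔄.locally A y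
  choose i g hg using hg
  let 𝒰 := (Scheme.affineOpenCoverOfSpanRangeEqTop (R := CommRingCat.of A) (fun f : s => (f.1 : A))
    (by rw [show Set.range (fun f : s => (f.1 : A)) = (s : Set A) from Subtype.range_coe_subtype]; exact hs)
      ).openCover
  let a : ∀ f : s, Spec (CommRingCat.of (Localization.Away f.1)) ⟶ 𝔄.X.left :=
    fun f => (g f.1 f.2 ≫ 𝔄.c (i f.1 f.2)).left
  have hcomp : ∀ f h : s, pullback.fst (𝒰.f f) (𝒰.f h) ≫ a f = pullback.snd (𝒰.f f) (𝒰.f h) ≫ a h := by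
    intro f h
    refine (pullback (𝒰.f f) (𝒰.f h)).affineCover.hom_ext _ _ fun m => ?_
    let j := (pullback (𝒰.f f) (𝒰.f h)).affineCover.f m
    obtain ⟨C, ⟨e⟩⟩ : ∃ C, Nonempty ((pullback (𝒰.f f) (𝒰.f h)).affineCover.X m ≅ Spec C) :=
      ⟨_, ⟨Iso.refl _⟩⟩
    rw [← cancel_epi e.inv]
    obtain ⟨φ, hφ⟩ : ∃ φ, Spec.map φ = e.inv ≫ j ≫ pullback.fst (𝒰.f f) (𝒰.f h) := Spec.map_surjective _
    obtain ⟨ψ, hψ⟩ : ∃ ψ, Spec.map ψ = e.inv ≫ j ≫ pullback.snd (𝒰.f f) (𝒰.f h) := Spec.map_surjective _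
    have hφψ : CommRingCat.ofHom (awayHom A f.1).hom.toRingHom ≫ φ =
        CommRingCat.ofHom (awayHom A h.1).hom.toRingHom ≫ ψ := by
      apply Spec.map_injective
      refine (Spec.map_comp _ _).trans ((congrArg (fun z => z ≫ _) hφ).trans (Eq.trans ?_
        ((congrArg (fun z => z ≫ _) hψ).symm.trans (Spec.map_comp _ _).symm)))
      simp only [Category.assoc]
      exact congrArg (fun z => e.inv ≫ j ≫ z) pullback.condition
    letI : Algebra R C := (φ.hom.comp (algebraMap R (Localization.Away f.1))).toAlgebra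
    let φ' : CommAlgCat.of R (Localization.Away f.1) ⟶ CommAlgCat.of R C :=
      CommAlgCat.ofHom { φ.hom with commutes' := fun _ => rfl }
    let ψ' : CommAlgCat.of R (Localization.Away h.1) ⟶ CommAlgCat.of R C :=
      CommAlgCat.ofHom { ψ.hom with
        commutes' := fun r => by
          have := RingHom.congr_fun (congrArg CommRingCat.Hom.hom hφψ) (algebraMap R A r)
          simp only [CommRingCat.hom_comp, CommRingCat.hom_ofHom, RingHom.comp_apply] at this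
          show ψ.hom (algebraMap R (Localization.Away h.1) r) = φ.hom (algebraMap R (Localization.Away f.1) r)
          rw [← (awayHom A h.1).hom.commutes r, ← (awayHom A f.1).hom.commutes r]
          exact this.symm }
    have e' : awayHom A f.1 ≫ φ' = awayHom A h.1 ≫ ψ' :=
      CommAlgCat.hom_ext (AlgHom.ext fun z => RingHom.congr_fun (congrArg CommRingCat.Hom.hom hφψ) z)
    have key : res φ' (g f.1 f.2) ≫ 𝔄.c _ = res ψ' (g h.1 h.2) ≫ 𝔄.c _ := by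
      rw [comp_c_eq_iff, 𝔄.pt_natural, 𝔄.pt_natural, hg, hg, ← Functor.map_comp_apply, ← Functor.map_comp_apply, e']
    have key' := congrArg CategoryTheory.Over.Hom.left key
    rw [res_comp, res_comp, res_left, res_left] at key'
    simp only [← Category.assoc] at hφ hψ ⊢
    rw [← hφ, ← hψ]
    exact key'
  let x₀ := 𝒰.glueMorphisms a hcomp
  let x : Pt 𝔄.X A := Over.homMk x₀ (by
    refine 𝒰.hom_ext _ _ fun f => ?_
    rw [← Category.assoc, Scheme.Cover.ι_glueMorphisms 𝒰 a hcomp f]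
    exact (Over.w (g f.1 f.2 ≫ 𝔄.c (i f.1 f.2))).trans
      (Over.w (wPt (awayHom A f.1))).symm)
  refine ⟨x, 𝔄.sep A _ hs _ _ fun f hf => ?_⟩
  rw [← hg f hf, ← 𝔄.isVal_val x (i f hf) _ (awayHom A f) (g f hf) ?_]
  ext1
  exact (Scheme.Cover.ι_glueMorphisms 𝒰 a hcomp ⟨f, hf⟩).symm

/-- The functor is represented by the glued scheme. -/
def equiv (A : CommAlgCat.{u} R) : Pt 𝔄.X A ≃ F.obj A :=
  Equiv.ofBijective 𝔄.val ⟨fun x x' h => 𝔄.val_injective x x' h, fun y => 𝔄.val_surjective y⟩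

theorem equiv_natural (A B : CommAlgCat.{u} R) (φ : A ⟶ B) (g : Pt 𝔄.X A) (g' : Pt 𝔄.X B)
    (h : g'.left = Spec.map (CommRingCat.ofHom φ.hom.toRingHom) ≫ g.left) :
    𝔄.equiv B g' = F.map φ (𝔄.equiv A g) := by
  obtain rfl : g' = res φ g := by ext1; exact h
  exact 𝔄.val_res φ g

theorem equiv_c {A : CommAlgCat.{u} R} (i : 𝔄.idx) (g : Pt (𝔄.U i) A) :
    𝔄.equiv A (g ≫ 𝔄.c i) = 𝔄.pt i A g := 𝔄.val_c i g

theorem iSup_opensRange_c : ⨆ i, (𝔄.c i).left.opensRange = ⊤ :=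
  top_le_iff.1 fun p _ => Opens.mem_iSup.2 (𝔄.exists_c p)

end Atlas

end GrothLib.Grass26
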