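import Groth.Agent.Lib.Grass26.Smooth
import Groth.Agent.Lib.Ample.ProjMap
import Groth.Agent.Lib.ProjIso26.Basic
import Mathlib.LinearAlgebra.Matrix.Adjugate
import Mathlib.Data.Finset.Sort
import Mathlib.Data.Fintype.Powerset

/-!
# The Plücker embedding
-/

set_option autoImplicit false
set_option linter.style.haveILetI false
set_option backward.isDefEq.respectTransparency false
universe u

noncomputable section

open TensorProduct CategoryTheory CategoryTheory.Limits AlgebraicGeometry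
open HomogeneousLocalization (Away)

namespace GrothLib.Grass26

variable {R : Type u} [CommRing R]

theorem exists_desc {F : CommAlgCat.{u} R ⥤ Type u} (𝔄 : Atlas R F) {Y : Over (Spec (CommRingCat.of R))}
    (f : ∀ i, 𝔄.U i ⟶ Y)
    (hf : ∀ i j (A : CommAlgCat.{u} R) (g : Pt (𝔄.U i) A) (g' : Pt (𝔄.U j) A),
      𝔄.pt i A g = 𝔄.pt j A g' → g ≫ f i = g' ≫ f j) :
    ∃ φ : 𝔄.X ⟶ Y, ∀ i, 𝔄.c i ≫ φ = f i := by
  have hc : ∀ i j, 𝔄.w i j ≫ f i = 𝔄.s i j ≫ f j := fun i j => hom_ext_of_points fun A x => by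
    rw [← Category.assoc, ← Category.assoc]
    exact hf i j A _ _ (𝔄.pt_s i j x).symm
  let φ : 𝔄.glueData.glued ⟶ Y.left := Multicoequalizer.desc _ _ (fun i => (f i).left) (by
    rintro ⟨i, j⟩
    show (𝔄.O i j).ι ≫ (f i).left = (𝔄.t i j ≫ (𝔄.O j i).ι) ≫ (f j).left
    rw [𝔄.t_ι]
    exact congrArg CategoryTheory.Over.Hom.left (hc i j))
  have hφ : ∀ i, 𝔄.glueData.ι i ≫ φ = (f i).left := fun i => Multicoequalizer.π_desc _ _ _ _ _
  refine ⟨Over.homMk φ ?_, fun i => by ext1; exact hφ i⟩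
  refine Multicoequalizer.hom_ext _ _ _ fun i => ?_
  show 𝔄.glueData.ι i ≫ φ ≫ Y.hom = 𝔄.glueData.ι i ≫ 𝔄.toBase
  rw [reassoc_of% hφ i]
  exact (Over.w (f i)).trans (Over.w (𝔄.c i)).symm

theorem le_range_c {F : CommAlgCat.{u} R ⥤ Type u} (𝔄 : Atlas R F) (i j : 𝔄.idx) (x : (𝔄.U i).left)
    (hx : x ∈ 𝔄.O i j) : (𝔄.c i).left x ∈ Set.range (𝔄.c j).left :=
  ⟨(𝔄.s i j).left ⟨x, hx⟩, (congrArg (fun f : (𝔄.O i j).toScheme ⟶ 𝔄.X.left => f ⟨x, hx⟩)
    (congrArg CategoryTheory.Over.Hom.left (𝔄.w_c i j))).symm⟩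

variable {n : ℕ}

local notation "𝒢" => CohB1.polyGrading n R

theorem X_mem' (t : Fin (n + 1)) : (MvPolynomial.X t : MvPolynomial (Fin (n + 1)) R) ∈ 𝒢 1 :=
  MvPolynomial.isHomogeneous_X R t

/-- The chart point of projective space with given homogeneous coordinates. -/
def projPt {A : Type u} [CommRing A] (f : MvPolynomial (Fin (n + 1)) R →+* A) (i : Fin (n + 1))
    (hi : IsUnit (f (MvPolynomial.X i))) : Spec (CommRingCat.of A) ⟶ CohB1.ProjSpace n R :=
  Spec.map (CommRingCat.ofHom (ProjPt.evalAway 𝒢 f (MvPolynomial.X i) hi)) ≫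
    Proj.awayι 𝒢 (MvPolynomial.X i) (X_mem' i) one_pos

theorem projPt_eq_of_eq {A : Type u} [CommRing A] (f : MvPolynomial (Fin (n + 1)) R →+* A) (i j : Fin (n + 1))
    (hi : IsUnit (f (MvPolynomial.X i))) (hj : IsUnit (f (MvPolynomial.X j))) : projPt f i hi = projPt f j hj := by
  have hu : IsUnit (f (MvPolynomial.X i * MvPolynomial.X j)) := by rw [map_mul]; exact hi.mul hj
  rw [projPt, projPt, ← ProjPt.evalAway_comp_awayMap 𝒢 f (X_mem' j) rfl (X_mem' i) hu hi,
    ← ProjPt.evalAway_comp_awayMap 𝒢 f (X_mem' i) (mul_comm (MvPolynomial.X i) (MvPolynomial.X j)) (X_mem' j) hu hj,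
    CommRingCat.ofHom_comp, CommRingCat.ofHom_comp, Spec.map_comp, Spec.map_comp, Category.assoc, Category.assoc,
    Proj.SpecMap_awayMap_awayι, Proj.SpecMap_awayMap_awayι]

theorem projPt_twist {A : Type u} [CommRing A] (f f' : MvPolynomial (Fin (n + 1)) R →+* A) (i j : Fin (n + 1))
    (hi : IsUnit (f (MvPolynomial.X i))) (hj : IsUnit (f' (MvPolynomial.X j))) (w : A) (hw : IsUnit w)
    (hC : ∀ r, f (MvPolynomial.C r) = f' (MvPolynomial.C r))
    (hX : ∀ t, f (MvPolynomial.X t) = w * f' (MvPolynomial.X t)) : projPt f i hi = projPt f' j hj := by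
  have hj' : IsUnit (f (MvPolynomial.X j)) := by rw [hX]; exact hw.mul hj
  rw [projPt_eq_of_eq f i j hi hj', projPt, projPt,
    ProjPt.evalAway_eq_of_twist 𝒢 f' f (X_mem' j) hj hj' w (Ample.ProjMap.map_eq_pow_mul f' f w hC hX)]

theorem comp_projPt {A B : Type u} [CommRing A] [CommRing B] (h : A →+* B)
    (f : MvPolynomial (Fin (n + 1)) R →+* A) (i : Fin (n + 1)) (hi : IsUnit (f (MvPolynomial.X i))) :
    Spec.map (CommRingCat.ofHom h) ≫ projPt f i hi = projPt (h.comp f) i (hi.map h) := by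
  rw [projPt, projPt, ← Category.assoc, ← Spec.map_comp, ← CommRingCat.ofHom_comp,
    ProjPt.comp_evalAway 𝒢 h f (X_mem' i) hi]

theorem projPt_toSpec {A : Type u} [CommRing A] (f : MvPolynomial (Fin (n + 1)) R →+* A) (i : Fin (n + 1))
    (hi : IsUnit (f (MvPolynomial.X i))) :
    projPt f i hi ≫ CohB1.ProjSpace.toSpec n R = Spec.map (CommRingCat.ofHom (f.comp MvPolynomial.C)) := by
  rw [projPt, Category.assoc, Ample.ProjMap.awayι_toSpec, ← Spec.map_comp, ← CommRingCat.ofHom_comp]
  congr 2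
  exact RingHom.ext fun r => Ample.ProjMap.evalAway_cst f i hi r

theorem projPt_preimage {A : Type u} [CommRing A] (f : MvPolynomial (Fin (n + 1)) R →+* A) (i t : Fin (n + 1))
    (hi : IsUnit (f (MvPolynomial.X i))) :
    projPt f i hi ⁻¹ᵁ Proj.basicOpen 𝒢 (MvPolynomial.X t) = sbo (CommRingCat.of A) (f (MvPolynomial.X t)) := by
  rw [projPt, Scheme.Hom.comp_preimage, Proj.awayι_preimage_basicOpen 𝒢 (X_mem' i) one_pos (X_mem' t) one_pos]
  have h : ProjPt.evalAway 𝒢 f (MvPolynomial.X i) hi (Away.isLocalizationElem (X_mem' i) (X_mem' t)) *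
      f (MvPolynomial.X i) ^ 1 = f (MvPolynomial.X t) ^ 1 := by
    rw [ProjPt.evalAway_mk_spec, map_pow]
  rw [pow_one, pow_one] at h
  ext p
  show _ ∉ p.asIdeal.comap _ ↔ f (MvPolynomial.X t) ∉ p.asIdeal
  rw [Ideal.mem_comap, ← h]
  exact ⟨fun h1 h2 => (p.2.mem_or_mem h2).elim h1 fun h3 => p.2.ne_top (Ideal.eq_top_of_isUnit_mem _ h3 hi),
    fun h1 h2 => h1 (Ideal.mul_mem_right _ _ h2)⟩

/-- Minors of a matrix of coordinates. -/
def minor {ι : Type u} {k : ℕ} {J : Fin k → ι} {A : Type u} [CommRing A] (m : Mat J A) (K : Fin k → ι) : A :=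
  Matrix.det (Matrix.of fun a c => m.1 a (K c))

theorem minor_map {ι : Type u} {k : ℕ} {J : Fin k → ι} {A B : Type u} [CommRing A] [CommRing B] [Algebra R A]
    [Algebra R B] (φ : A →ₐ[R] B) (m : Mat J A) (K : Fin k → ι) : minor (m.map φ) K = φ (minor m K) := by
  rw [minor, minor, AlgHom.map_det]
  rfl

theorem minor_perm {ι : Type u} {k : ℕ} {J : Fin k → ι} {A : Type u} [CommRing A] (m : Mat J A) (K : Fin k → ι)
    (σ : Equiv.Perm (Fin k)) : minor m (K ∘ σ) = ((Equiv.Perm.sign σ : ℤˣ) : ℤ) * minor m K :=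
  Matrix.det_permute' σ (Matrix.of fun a c => m.1 a (K c))

theorem minor_self {ι : Type u} {k : ℕ} {J : Fin k → ι} {A : Type u} [CommRing A] (m : Mat J A) :
    minor m J = 1 := by
  rw [minor, show (Matrix.of fun a c => m.1 a (J c)) = (1 : Matrix (Fin k) (Fin k) A) by
    ext a c; simp [Matrix.one_apply, m.2], Matrix.det_one]

theorem minor_update {ι : Type u} [DecidableEq ι] {k : ℕ} {J : Fin k → ι} {A : Type u} [CommRing A] (m : Mat J A)
    (a : Fin k) (j : ι) : minor m (Function.update J a j) = m.1 a j := by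
  have : (Matrix.of fun a' c => m.1 a' (Function.update J a j c)) =
      (1 : Matrix (Fin k) (Fin k) A).updateCol a (fun a' => m.1 a' j) := by
    ext a' c
    rw [Matrix.updateCol_apply, Matrix.of_apply, Function.update_apply]
    split_ifs with h
    · rfl
    · rw [m.2, Matrix.one_apply]
  rw [minor, this, ← Matrix.cramer_apply, Matrix.cramer_one]
  rfl

variable {M : Type u} [AddCommGroup M] [Module R M] {ι : Type u} (b : Module.Basis ι R M) {k : ℕ}

theorem minor_change {J J' : Fin k → ι} {A : Type u} [CommRing A] [Algebra R A] (m : Mat J A) (m' : Mat J' A)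
    (h : ofMat b m = ofMat b m') (K : Fin k → ι) : minor m K = minor m J' * minor m' K := by
  rw [minor, minor, minor, ← Matrix.det_mul]
  congr 1
  ext a c
  have h0 : b.baseChange A (K c) - ∑ a', m'.1 a' (K c) • b.baseChange A (J' a') ∈ LinearMap.ker (proj b m) := by
    rw [← ofMat_toSubmodule, h]
    exact LinearMap.mem_ker.2 (proj_kerGen b m' (K c))
  rw [LinearMap.mem_ker, map_sub, map_sum, sub_eq_zero, proj_basis] at h0
  have h1 := congrFun h0 a
  simp only [map_smul, proj_basis, Finset.sum_apply, Pi.smul_apply, smul_eq_mul] at h1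
  show m.1 a (K c) = _
  rw [h1, Matrix.mul_apply]
  simp [mul_comm]

/-- The Plücker embedding of the glued Grassmannian. -/
theorem exists_pluecker [Finite ι] [Module.Finite R M] (K : Fin (n + 1) → Fin k → ι)
    (hK : ∀ t, Function.Injective (K t))
    (hK' : ∀ J : Fin k → ι, Function.Injective J → ∃ (t : Fin (n + 1)) (σ : Equiv.Perm (Fin k)), J = K t ∘ σ) :
    ∃ φ : (grassAtlas k b).X.left ⟶ CohB1.ProjSpace n R,
      IsClosedImmersion φ ∧ φ ≫ CohB1.ProjSpace.toSpec n R = (grassAtlas k b).X.hom := by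
  classical
  set 𝔄 := grassAtlas k b
  let univ : ∀ (i : {J : Fin k → ι // Function.Injective J}), Mat i.1 (chartRing R i.1) := fun i =>
    matOf i.1 i.2 fun p => (MvPolynomial.X p : MvPolynomial (Param i.1) R)
  let f : ∀ i : {J : Fin k → ι // Function.Injective J}, MvPolynomial (Fin (n + 1)) R →+* chartRing R i.1 := fun i =>
    MvPolynomial.eval₂Hom (algebraMap R _) fun t => minor (univ i) (K t)
  have hfX : ∀ i t, f i (MvPolynomial.X t) = minor (univ i) (K t) := fun i t => MvPolynomial.eval₂Hom_X' _ _ _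
  have hfC : ∀ i r, f i (MvPolynomial.C r) = algebraMap R _ r := fun i r => MvPolynomial.eval₂Hom_C _ _ _
  have hsel : ∀ i : {J : Fin k → ι // Function.Injective J}, ∃ t, IsUnit (f i (MvPolynomial.X t)) := fun i => by
    obtain ⟨t, σ, hσ⟩ := hK' i.1 i.2
    refine ⟨t, ?_⟩
    rw [hfX, show K t = i.1 ∘ ⇑σ.symm by rw [hσ]; ext c; simp, minor_perm, minor_self, mul_one]
    rcases Int.units_eq_one_or (Equiv.Perm.sign σ.symm) with h | h <;> simp [h]
  choose sel hsel using hsel
  let Y : Over (Spec (CommRingCat.of R)) := Over.mk (CohB1.ProjSpace.toSpec n R)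
  let piece : ∀ i : 𝔄.idx, 𝔄.U i ⟶ Y := fun i => Over.homMk (projPt (f i) (sel i) (hsel i)) (by
    show _ ≫ CohB1.ProjSpace.toSpec n R = _
    rw [projPt_toSpec]
    exact congrArg (fun z => Spec.map (CommRingCat.ofHom z)) (RingHom.ext (hfC i)))
  obtain ⟨φ, hφ⟩ := exists_desc 𝔄 piece (by
    intro i j A g g' h
    have e1 := congrArg CategoryTheory.Over.Hom.left (wPt_ptHom g)
    have e2 := congrArg CategoryTheory.Over.Hom.left (wPt_ptHom g')
    have hm : ∀ (i : 𝔄.idx) (g : Pt (𝔄.U i) A) K, (ptHom g).hom (minor (univ i) K) = minor (chartMat i.2 g) K := by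
      intro i g K
      rw [← minor_map, chartMat, matOf_map]
    ext1
    show g.left ≫ projPt (f i) (sel i) (hsel i) = g'.left ≫ projPt (f j) (sel j) (hsel j)
    rw [← e1, ← e2]
    show Spec.map (CommRingCat.ofHom (ptHom g).hom.toRingHom) ≫ _ = Spec.map (CommRingCat.ofHom (ptHom g').hom.toRingHom) ≫ _
    rw [comp_projPt, comp_projPt]
    refine projPt_twist _ _ _ _ _ _ (minor (chartMat i.2 g) j.1) ?_ (fun r => ?_) (fun t => ?_)
    · refine (basisAt_ofMat_iff b (chartMat i.2 g) j.1).1 ?_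
      rw [show ofMat b (chartMat i.2 g) = ofMat b (chartMat j.2 g') from h]
      exact basisAt_ofMat_self b _
    · rw [RingHom.comp_apply, RingHom.comp_apply, hfC, hfC]
      exact ((ptHom g).hom.commutes r).trans ((ptHom g').hom.commutes r).symm
    · rw [RingHom.comp_apply, RingHom.comp_apply, hfX, hfX]
      show (ptHom g).hom _ = _ * (ptHom g').hom _
      rw [hm, hm]
      exact minor_change b _ _ h _)
  have hφ' : ∀ i, (𝔄.c i).left ≫ φ.left = projPt (f i) (sel i) (hsel i) := fun i =>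
    congrArg CategoryTheory.Over.Hom.left (hφ i)
  refine ⟨φ.left, ?_, Over.w φ⟩
  refine (IsZariskiLocalAtTarget.iff_of_iSup_eq_top (P := @IsClosedImmersion) _
    (Ample.ProjMap.iSup_basicOpen_X n R)).2 fun t => ?_
  let i : 𝔄.idx := ⟨K t, hK t⟩
  have hti : IsUnit (f i (MvPolynomial.X t)) := by rw [hfX, minor_self]; exact isUnit_one
  let iV := Proj.awayι 𝒢 (MvPolynomial.X t) (X_mem' (R := R) t) one_pos
  let g := ProjPt.evalAway 𝒢 (f i) (MvPolynomial.X t) hti
  have hw : (𝔄.c i).left ≫ φ.left = Spec.map (CommRingCat.ofHom g) ≫ iV := by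
    rw [hφ', projPt_eq_of_eq (f i) (sel i) t (hsel i) hti]
    rfl
  have hpre : φ.left ⁻¹ᵁ iV.opensRange = (𝔄.c i).left.opensRange := by
    rw [Proj.opensRange_awayι]
    ext p
    obtain ⟨j, q, rfl⟩ := 𝔄.exists_c p
    show φ.left ((𝔄.c j).left q) ∈ Proj.basicOpen 𝒢 (MvPolynomial.X t) ↔ (𝔄.c j).left q ∈ Set.range (𝔄.c i).left
    rw [← Scheme.Hom.comp_apply, hφ']
    constructor
    · intro hq
      have hq' : q ∈ sbo (CommRingCat.of (chartRing R j.1)) (f j (MvPolynomial.X t)) := by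
        rw [← projPt_preimage (f j) (sel j) t (hsel j)]; exact hq
      rw [hfX] at hq'
      exact le_range_c 𝔄 j i q hq'
    · rintro ⟨q', hq'⟩
      rw [← hφ', Scheme.Hom.comp_apply, ← hq', ← Scheme.Hom.comp_apply, hφ']
      show q' ∈ projPt (f i) (sel i) (hsel i) ⁻¹ᵁ Proj.basicOpen 𝒢 (MvPolynomial.X t)
      rw [projPt_preimage]
      exact fun h => q'.2.ne_top (Ideal.eq_top_of_isUnit_mem _ h hti)
  have H := IsOpenImmersion.isPullback (Spec.map (CommRingCat.ofHom g)) (𝔄.c i).left iV φ.left hw hpre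
  have hg : Function.Surjective g := by
    suffices ∀ z : MvPolynomial (Param i.1) R, z ∈ g.range from fun z => this z
    intro z
    induction z using MvPolynomial.induction_on with
    | C r => exact ⟨_, (Ample.ProjMap.evalAway_cst (f i) t hti r).trans (hfC i r)⟩
    | add p q hp hq => exact add_mem hp hq
    | mul_X p x hp =>
      refine mul_mem hp ?_
      obtain ⟨⟨a, j⟩, hj⟩ := x
      have hinj : Function.Injective (Function.update i.1 a j) := by
        intro c c' hc
        rw [Function.update_apply, Function.update_apply] at hc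
        split_ifs at hc with h1 h2 h2
        · rw [h1, h2]
        · exact (hj ⟨c', hc.symm⟩).elim
        · exact (hj ⟨c, hc⟩).elim
        · exact i.2 hc
      obtain ⟨t', σ, hσ⟩ := hK' _ hinj
      have h1 : g (Ample.ProjMap.ratio t t') = minor (univ i) (K t') := by
        have := Ample.ProjMap.evalAway_ratio (f i) t t' hti
        rw [hfX i t, hfX i t', minor_self, mul_one] at this
        exact this
      have h2 : minor (univ i) (Function.update i.1 a j) = MvPolynomial.X ⟨(a, j), hj⟩ := by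
        rw [minor_update]
        exact matOf_apply i.1 i.2 (fun p => (MvPolynomial.X p : MvPolynomial (Param i.1) R)) ⟨(a, j), hj⟩
      rw [← h2, hσ, minor_perm]
      exact mul_mem (intCast_mem _ _) ⟨_, h1⟩
  haveI : IsClosedImmersion (Spec.map (CommRingCat.ofHom g)) := IsClosedImmersion.spec_of_surjective _ hg
  rw [show Proj.basicOpen 𝒢 (MvPolynomial.X t) = iV.opensRange from (Proj.opensRange_awayι _ _ _ _).symm,
    MorphismProperty.arrow_mk_iso_iff @IsClosedImmersion (morphismRestrictOpensRange φ.left iV),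
    ← H.flip.isoPullback_inv_snd]
  infer_instance

/-- A representing object embeds in projective space. -/
theorem exists_pluecker_rep {N q : ℕ} (hq : q ≤ N) (b : Module.Basis (ULift.{u} (Fin N)) R M)
    (X : Over (Spec (CommRingCat.of R))) (e : ∀ A : CommAlgCat.{u} R, Pt X A ≃ (GrF R M q).obj A)
    (he : ∀ (A B : CommAlgCat.{u} R) (φ : A ⟶ B) (g : Pt X A) (g' : Pt X B),
      g'.left = Spec.map (CommRingCat.ofHom φ.hom.toRingHom) ≫ g.left →
        e B g' = (GrF R M q).map φ (e A g)) :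
    ∃ c : X.left ⟶ CohB1.ProjSpaceOver (N.choose q - 1) (Spec (CommRingCat.of R)),
      IsClosedImmersion c ∧
        c ≫ CohB1.ProjSpaceOver.toBase (N.choose q - 1) (Spec (CommRingCat.of R)) = X.hom := by
  classical
  haveI : Module.Finite R M := Module.Finite.of_basis b
  have hpos : 1 ≤ N.choose q := Nat.choose_pos hq
  let es : Fin (N.choose q - 1 + 1) ≃ {s : Finset (Fin N) // s.card = q} :=
    (finCongr (Nat.sub_add_cancel hpos)).trans (Fintype.equivFinOfCardEq (by simp)).symm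
  let K : Fin (N.choose q - 1 + 1) → Fin q → ULift.{u} (Fin N) := fun t a => ⟨(es t).1.orderEmbOfFin (es t).2 a⟩
  have hK : ∀ t, Function.Injective (K t) := fun t a c h =>
    ((es t).1.orderEmbOfFin (es t).2).injective (congrArg ULift.down h)
  have hK' : ∀ J : Fin q → ULift.{u} (Fin N), Function.Injective J →
      ∃ (t : Fin (N.choose q - 1 + 1)) (σ : Equiv.Perm (Fin q)), J = K t ∘ σ := by
    intro J hJ
    have hinj : Function.Injective fun a => (J a).down := fun a c h => hJ (ULift.ext _ _ h)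
    let s : {s : Finset (Fin N) // s.card = q} :=
      ⟨Finset.univ.image fun a => (J a).down, by rw [Finset.card_image_of_injective _ hinj]; simp⟩
    have hmem : ∀ a, ∃ c, s.1.orderEmbOfFin s.2 c = (J a).down := fun a => by
      rw [← Set.mem_range, Finset.range_orderEmbOfFin]
      exact Finset.mem_image_of_mem _ (Finset.mem_univ a)
    choose σ hσ using hmem
    have hσi : Function.Injective σ := fun a c h => hinj (by simp only [← hσ, h])
    refine ⟨es.symm s, Equiv.ofBijective σ (Finite.injective_iff_bijective.1 hσi), funext fun a => ?_⟩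
    show J a = ⟨(es (es.symm s)).1.orderEmbOfFin _ (σ a)⟩
    refine ULift.ext _ _ ?_
    rw [← hσ]
    congr 2 <;> simp
  obtain ⟨φ, hφ, hφ'⟩ := exists_pluecker (k := q) b K hK hK'
  let 𝔄 := grassAtlas q b
  obtain ⟨θ, -⟩ := exists_iso_of_equiv e 𝔄.equiv he (fun A B φ g g' h => 𝔄.equiv_natural A B φ g g' h)
  haveI : IsIso θ.hom.left := inferInstanceAs (IsIso ((Over.forget _).map θ.hom))
  haveI := ProjIso26.isIso_toProjSpace (N.choose q - 1) R
  refine ⟨θ.hom.left ≫ φ ≫ inv (Ample.ProjMap.toProjSpace (N.choose q - 1) R), inferInstance, ?_⟩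
  rw [Category.assoc, Category.assoc, ← Ample.ProjMap.toProjSpace_toSpec, IsIso.inv_hom_id_assoc, hφ']
  exact Over.w θ.hom

end GrothLib.Grass26
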