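import Groth.Agent.Lib.LocClosedRep.Basic
import Mathlib.Algebra.Category.CommAlgCat.Basic
import Mathlib.AlgebraicGeometry.Morphisms.ClosedImmersion
import Mathlib.RingTheory.LocalProperties.Basic

/-!
# Schemes over an affine base through their affine points
-/

set_option autoImplicit false
set_option linter.style.haveILetI false
universe u

noncomputable section

open CategoryTheory CategoryTheory.Limits AlgebraicGeometry Opposite TopologicalSpace

namespace GrothLib.Grass26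

variable {R : Type u} [CommRing R]

/-- An element vanishing in the localisations at generators of the unit ideal is zero. -/
theorem eq_zero_of_span {A : Type u} [CommRing A] (s : Set A) (hs : Ideal.span s = ⊤) (a : A)
    (h : ∀ f ∈ s, algebraMap A (Localization.Away f) a = 0) : a = 0 := by
  have hrad : Ideal.span s ≤ (Submodule.span A {a}).annihilator.radical := by
    refine Ideal.span_le.2 fun f hf => ?_
    obtain ⟨⟨_, k, rfl⟩, hk⟩ :=
      (IsLocalization.map_eq_zero_iff (Submonoid.powers f) (Localization.Away f) a).1 (h f hf)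
    exact ⟨k, (Submodule.mem_annihilator_span_singleton _ _).2 (by simpa using hk)⟩
  rw [hs, top_le_iff, Ideal.radical_eq_top, Ideal.eq_top_iff_one, Submodule.mem_annihilator_span_singleton,
    one_smul] at hrad
  exact hrad

/-- Basic opens of a spectrum, as opens of the scheme. -/
abbrev sbo (A : CommRingCat.{u}) (f : A) : (Spec A).Opens := PrimeSpectrum.basicOpen f

/-- Affine points of a scheme over `Spec R`. -/
abbrev Pt (X : Over (Spec (CommRingCat.of R))) (A : CommAlgCat.{u} R) : Type u :=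
  Over.mk (Spec.map (CommRingCat.ofHom (algebraMap R A))) ⟶ X

variable {X Y : Over (Spec (CommRingCat.of R))}

/-- Morphisms agreeing on affine points agree. -/
theorem hom_ext_of_points {f g : X ⟶ Y} (h : ∀ (A : CommAlgCat.{u} R) (x : Pt X A), x ≫ f = x ≫ g) : f = g := by
  ext1
  refine (Scheme.openCoverOfIsOpenCover _ _ (iSup_affineOpens_eq_top X.left)).hom_ext _ _ fun (V : X.left.affineOpens) => ?_
  obtain ⟨ρ, hρ⟩ : ∃ ρ, Spec.map ρ = V.2.fromSpec ≫ X.hom := Spec.map_surjective _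
  letI : Algebra R Γ(X.left, V) := ρ.hom.toAlgebra
  let x : Pt X (CommAlgCat.of R Γ(X.left, V)) := Over.homMk V.2.fromSpec hρ.symm
  have h1 : V.2.fromSpec ≫ f.left = V.2.fromSpec ≫ g.left := congrArg CategoryTheory.Over.Hom.left (h _ x)
  show V.1.ι ≫ f.left = V.1.ι ≫ g.left
  rw [← V.2.isoSpec_hom_fromSpec, Category.assoc, Category.assoc, h1]

/-- A natural map of affine points comes from a morphism. -/
theorem exists_hom_of_points (F : ∀ A : CommAlgCat.{u} R, Pt X A → Pt Y A)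
    (hF : ∀ (A B : CommAlgCat.{u} R) (φ : A ⟶ B) (x : Pt X A) (x' : Pt X B),
      x'.left = Spec.map (CommRingCat.ofHom φ.hom.toRingHom) ≫ x.left →
        (F B x').left = Spec.map (CommRingCat.ofHom φ.hom.toRingHom) ≫ (F A x).left) :
    ∃ f : X ⟶ Y, ∀ (A : CommAlgCat.{u} R) (x : Pt X A), x ≫ f = F A x := by
  have hρ : ∀ (C : CommRingCat.{u}) (u : Spec C ⟶ X.left), ∃ (A : CommAlgCat.{u} R) (x : Pt X A)
      (e : CommRingCat.of A ≅ C), x.left = Spec.map e.inv ≫ u := by
    intro C u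
    obtain ⟨ρ, hρ⟩ : ∃ ρ, Spec.map ρ = u ≫ X.hom := Spec.map_surjective _
    letI : Algebra R C := ρ.hom.toAlgebra
    exact ⟨CommAlgCat.of R C, Over.homMk u hρ.symm, Iso.refl _,
      by show u = Spec.map (𝟙 C) ≫ u; rw [Spec.map_id, Category.id_comp]⟩
  have key : ∀ (C : CommRingCat.{u}) (u : Spec C ⟶ X.left), ∃ v : Spec C ⟶ Y.left,
      v ≫ Y.hom = u ≫ X.hom ∧ ∀ (A : CommAlgCat.{u} R) (x : Pt X A) (φ : C ⟶ CommRingCat.of A),
        x.left = Spec.map φ ≫ u → (F A x).left = Spec.map φ ≫ v := by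
    intro C u
    obtain ⟨ρ, hρ'⟩ : ∃ ρ, Spec.map ρ = u ≫ X.hom := Spec.map_surjective _
    letI : Algebra R C := ρ.hom.toAlgebra
    let x₀ : Pt X (CommAlgCat.of R C) := Over.homMk u hρ'.symm
    refine ⟨(F _ x₀).left, (Over.w (F _ x₀)).trans hρ', fun A x φ hx => ?_⟩
    have hφ : φ.hom.comp (algebraMap R C) = algebraMap R A := by
      have h1 : Spec.map (CommRingCat.ofHom (algebraMap R A)) = Spec.map φ ≫ Spec.map ρ := by
        rw [hρ', ← Category.assoc, ← hx]
        exact (Over.w x).symm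
      rw [← Spec.map_comp] at h1
      exact (congrArg CommRingCat.Hom.hom (Spec.map_injective h1)).symm
    exact hF (CommAlgCat.of R C) A
      (CommAlgCat.ofHom { φ.hom with commutes' := fun r => RingHom.congr_fun hφ r }) x₀ x hx
  choose v hv hvF using fun V : X.left.affineOpens => key Γ(X.left, V) V.2.fromSpec
  let 𝒰 := Scheme.openCoverOfIsOpenCover _ _ (iSup_affineOpens_eq_top X.left)
  let a : ∀ V : X.left.affineOpens, (V.1 : Scheme.{u}) ⟶ Y.left := fun V => V.2.isoSpec.hom ≫ v V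
  have hloc : ∀ (V : X.left.affineOpens) (A : CommAlgCat.{u} R) (x : Pt X A)
      (j : Spec (CommRingCat.of A) ⟶ V.1), j ≫ V.1.ι = x.left → j ≫ a V = (F A x).left := by
    intro V A x j hj
    obtain ⟨φ, hφ⟩ : ∃ φ, Spec.map φ = j ≫ V.2.isoSpec.hom := Spec.map_surjective _
    rw [hvF V A x φ (by rw [hφ, Category.assoc, V.2.isoSpec_hom_fromSpec, hj]), hφ, Category.assoc]
  have hcomp : ∀ V W, pullback.fst (𝒰.f V) (𝒰.f W) ≫ a V = pullback.snd (𝒰.f V) (𝒰.f W) ≫ a W := by
    intro V W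
    refine (pullback (𝒰.f V) (𝒰.f W)).affineCover.hom_ext _ _ fun i => ?_
    let j := (pullback (𝒰.f V) (𝒰.f W)).affineCover.f i
    obtain ⟨A, x, e, hx⟩ := hρ _ (j ≫ pullback.fst (𝒰.f V) (𝒰.f W) ≫ 𝒰.f V)
    refine (cancel_epi (Spec.map e.inv)).1 ?_
    have h1 := hloc V A x (Spec.map e.inv ≫ j ≫ pullback.fst _ _) (by rw [hx]; simp only [Category.assoc]; rfl)
    have h2 := hloc W A x (Spec.map e.inv ≫ j ≫ pullback.snd _ _) (by
      rw [hx, pullback.condition]; simp only [Category.assoc]; rfl)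
    simp only [Category.assoc] at h1 h2
    exact h1.trans h2.symm
  refine ⟨Over.homMk (𝒰.glueMorphisms a hcomp) (𝒰.hom_ext _ _ fun V => ?_), fun A x => ?_⟩
  · rw [𝒰.ι_glueMorphisms_assoc]
    show V.2.isoSpec.hom ≫ v V ≫ Y.hom = _
    rw [hv, ← Category.assoc, V.2.isoSpec_hom_fromSpec]
    rfl
  · ext1
    show x.left ≫ 𝒰.glueMorphisms a hcomp = (F A x).left
    refine ((Spec (CommRingCat.of A)).openCoverOfIsOpenCover
      (fun i : Σ V : X.left.affineOpens, {f : A // PrimeSpectrum.basicOpen f ≤ x.left ⁻¹ᵁ V.1} =>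
        sbo (CommRingCat.of A) i.2.1) ?_).hom_ext _ _ fun i => ?_
    · refine TopologicalSpace.IsOpenCover.mk (top_le_iff.1 fun p _ => ?_)
      obtain ⟨V, hV, hpV, -⟩ := exists_isAffineOpen_mem_and_subset (x := x.left p) (U := ⊤) trivial
      obtain ⟨_, ⟨_, ⟨f, rfl⟩, rfl⟩, hpf, hf⟩ := PrimeSpectrum.isBasis_basic_opens.exists_subset_of_mem_open
        (show p ∈ x.left ⁻¹ᵁ V from hpV) (x.left ⁻¹ᵁ V).isOpen
      exact Opens.mem_iSup.2 ⟨⟨⟨V, hV⟩, f, hf⟩, hpf⟩
    · obtain ⟨V, f, hf⟩ := i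
      show (sbo (CommRingCat.of A) f).ι ≫ _ = (sbo (CommRingCat.of A) f).ι ≫ _
      let Af : CommAlgCat.{u} R := CommAlgCat.of R (Localization.Away f)
      let φ : A ⟶ Af := CommAlgCat.ofHom (IsScalarTower.toAlgHom R A (Localization.Away f))
      let w : Over.mk (Spec.map (CommRingCat.ofHom (algebraMap R Af))) ⟶
          Over.mk (Spec.map (CommRingCat.ofHom (algebraMap R A))) :=
        Over.homMk (Spec.map (CommRingCat.ofHom φ.hom.toRingHom)) (by
          show Spec.map _ ≫ Spec.map _ = Spec.map _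
          rw [← Spec.map_comp, ← CommRingCat.ofHom_comp]
          exact congrArg (fun g => Spec.map (CommRingCat.ofHom g)) φ.hom.comp_algebraMap)
      have hr : Set.range (Spec.map (CommRingCat.ofHom φ.hom.toRingHom) ≫ x.left) ⊆ Set.range V.1.ι := by
        rw [Scheme.Opens.range_ι]
        rintro _ ⟨p, rfl⟩
        exact hf ((PrimeSpectrum.localization_away_comap_range (Localization.Away f) f).le ⟨p, rfl⟩)
      let j := IsOpenImmersion.lift V.1.ι _ hr
      have hj : j ≫ V.1.ι = Spec.map (CommRingCat.ofHom φ.hom.toRingHom) ≫ x.left := IsOpenImmersion.lift_fac _ _ _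
      have h1 := hloc V Af (w ≫ x) j hj
      rw [hF A Af φ x (w ≫ x) rfl] at h1
      rw [← cancel_epi (basicOpenIsoSpecAway (R := CommRingCat.of A) f).inv]
      have e : (basicOpenIsoSpecAway (R := CommRingCat.of A) f).inv ≫ (sbo (CommRingCat.of A) f).ι =
          Spec.map (CommRingCat.ofHom φ.hom.toRingHom) := IsOpenImmersion.isoOfRangeEq_inv_fac _ _ _
      rw [reassoc_of% e, reassoc_of% e, ← h1, ← Category.assoc, ← hj]
      show (j ≫ 𝒰.f V) ≫ 𝒰.glueMorphisms a hcomp = j ≫ a V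
      exact (Category.assoc _ _ _).trans (congrArg (j ≫ ·) (𝒰.ι_glueMorphisms a hcomp V))

/-- A natural ideal on the affine points cuts out a closed subscheme. -/
theorem exists_closedSubscheme (𝔞 : ∀ A : CommAlgCat.{u} R, Pt X A → Ideal A)
    (h𝔞 : ∀ (A B : CommAlgCat.{u} R) (φ : A ⟶ B) (x : Pt X A) (x' : Pt X B),
      x'.left = Spec.map (CommRingCat.ofHom φ.hom.toRingHom) ≫ x.left →
        𝔞 B x' = (𝔞 A x).map φ.hom.toRingHom) :
    ∃ (Z : Scheme.{u}) (ι : Z ⟶ X.left), IsClosedImmersion ι ∧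
      ∀ (A : CommAlgCat.{u} R) (x : Pt X A),
        (∃ h : Spec (CommRingCat.of A) ⟶ Z, h ≫ ι = x.left) ↔ 𝔞 A x = ⊥ := by
  let P : ∀ T : Scheme.{u}, (T ⟶ X.left) → Prop := fun T t =>
    ∀ (A : CommAlgCat.{u} R) (x : Pt X A) (u : Spec (CommRingCat.of A) ⟶ T), u ≫ t = x.left → 𝔞 A x = ⊥
  have halg : ∀ (C : CommRingCat.{u}) (u : Spec C ⟶ X.left), ∃ (_ : Algebra R C) (x : Pt X (CommAlgCat.of R C)),
      x.left = u := by
    intro C u
    obtain ⟨ρ, hρ'⟩ : ∃ ρ, Spec.map ρ = u ≫ X.hom := Spec.map_surjective _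
    exact ⟨ρ.hom.toAlgebra, @Over.homMk _ _ _ (Over.mk _) X u hρ'.symm, rfl⟩
  have hmap : ∀ (A B : CommAlgCat.{u} R) (g : CommRingCat.of A ⟶ CommRingCat.of B) (x : Pt X A) (x' : Pt X B),
      x'.left = Spec.map g ≫ x.left → 𝔞 B x' = (𝔞 A x).map g.hom := by
    intro A B g x x' hx
    have hφ : g.hom.comp (algebraMap R A) = algebraMap R B := by
      have h1 : Spec.map (CommRingCat.ofHom (algebraMap R B)) =
          Spec.map g ≫ Spec.map (CommRingCat.ofHom (algebraMap R A)) := by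
        have e1 := Over.w x'
        rw [hx, Category.assoc, Over.w x] at e1
        exact e1.symm
      rw [← Spec.map_comp] at h1
      exact (congrArg CommRingCat.Hom.hom (Spec.map_injective h1)).symm
    exact h𝔞 A B (CommAlgCat.ofHom { g.hom with commutes' := fun r => RingHom.congr_fun hφ r }) x x' hx
  obtain ⟨I, hI⟩ := LocClosedRep.exists_ideal_iff P (fun j t ht A x u hu => ht A x (u ≫ j) (by rw [Category.assoc, hu]))
    (fun {T} t ht A x u hu => by
      rw [Submodule.eq_bot_iff]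
      intro a ha
      refine eq_zero_of_span {f : A | ∃ y : T, ∃ W : T.Opens, y ∈ W ∧ P _ (W.ι ≫ t) ∧
          PrimeSpectrum.basicOpen f ≤ u ⁻¹ᵁ W} ?_ a fun f hf₀ => ?_
      · rw [← PrimeSpectrum.iSup_basicOpen_eq_top_iff']
        refine top_le_iff.1 fun p _ => ?_
        obtain ⟨W, hW, hPW⟩ := ht (u p)
        obtain ⟨_, ⟨_, ⟨f, rfl⟩, rfl⟩, hpf, hf⟩ := PrimeSpectrum.isBasis_basic_opens.exists_subset_of_mem_open
          (show p ∈ u ⁻¹ᵁ W from hW) (u ⁻¹ᵁ W).isOpen
        exact Opens.mem_iSup.2 ⟨f, Opens.mem_iSup.2 ⟨⟨u p, W, hW, hPW, hf⟩, hpf⟩⟩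
      · obtain ⟨-, W, -, hPW, hf⟩ := hf₀
        let Af : CommAlgCat.{u} R := CommAlgCat.of R (Localization.Away f)
        let φ : A ⟶ Af := CommAlgCat.ofHom (IsScalarTower.toAlgHom R A (Localization.Away f))
        have hr : Set.range (Spec.map (CommRingCat.ofHom φ.hom.toRingHom) ≫ u) ⊆ Set.range W.ι := by
          rw [Scheme.Opens.range_ι]
          rintro _ ⟨p, rfl⟩
          exact hf ((PrimeSpectrum.localization_away_comap_range (Localization.Away f) f).le ⟨p, rfl⟩)
        let w : Over.mk (Spec.map (CommRingCat.ofHom (algebraMap R Af))) ⟶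
            Over.mk (Spec.map (CommRingCat.ofHom (algebraMap R A))) :=
          Over.homMk (Spec.map (CommRingCat.ofHom φ.hom.toRingHom)) (by
            show Spec.map _ ≫ Spec.map _ = Spec.map _
            rw [← Spec.map_comp, ← CommRingCat.ofHom_comp]
            exact congrArg (fun g => Spec.map (CommRingCat.ofHom g)) φ.hom.comp_algebraMap)
        have h0 := hPW Af (w ≫ x) (IsOpenImmersion.lift W.ι _ hr) (by
          rw [IsOpenImmersion.lift_fac_assoc, Category.assoc, hu]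
          rfl)
        rw [h𝔞 A Af φ x (w ≫ x) rfl, Ideal.map_eq_bot_iff_le_ker] at h0
        exact RingHom.mem_ker.1 (h0 ha))
    (G := fun _ => True) (fun _ _ => trivial)
    (fun V hV _ => by
      obtain ⟨inst, x, hx⟩ := halg Γ(X.left, V) hV.fromSpec
      refine ⟨𝔞 _ x, fun C χ => ⟨fun hP => ?_, fun hJ A y v hv => ?_⟩⟩
      · obtain ⟨inst', y, hy⟩ := halg C (Spec.map χ ≫ hV.fromSpec)
        have h0 := hP _ y (𝟙 _) (by rw [Category.id_comp]; exact hy.symm)
        rw [hmap _ _ χ x y (by rw [hy, hx]), Ideal.map_eq_bot_iff_le_ker] at h0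
        exact h0
      · obtain ⟨ψ, hψ⟩ : ∃ ψ, Spec.map ψ = v := Spec.map_surjective _
        rw [hmap _ _ (χ ≫ ψ) x y (by rw [← hv, Spec.map_comp, hψ, hx, Category.assoc]),
          Ideal.map_eq_bot_iff_le_ker]
        exact hJ.trans fun a ha => RingHom.mem_ker.2 ((congrArg ψ.hom (RingHom.mem_ker.1 ha)).trans (map_zero _)))
    (fun _ => ⟨⊤, trivial, trivial⟩)
  refine ⟨I.subscheme, I.subschemeι, inferInstance, fun A x => ⟨?_, fun h0 => ?_⟩⟩
  · rintro ⟨h, hh⟩
    refine (hI x.left).2 ?_ A x (𝟙 _) (Category.id_comp _)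
    rw [← hh]
    exact (Scheme.IdealSheafData.ker_subschemeι I).ge.trans (Scheme.Hom.le_ker_comp h I.subschemeι)
  · have hle : I ≤ x.left.ker := (hI x.left).1 fun B y v hv => by
      obtain ⟨ψ, hψ⟩ : ∃ ψ, Spec.map ψ = v := Spec.map_surjective _
      rw [hmap _ _ ψ x y (by rw [← hv, hψ]), h0, Ideal.map_bot]
    exact ⟨IsClosedImmersion.lift I.subschemeι x.left (by rwa [Scheme.IdealSheafData.ker_subschemeι]),
      IsClosedImmersion.lift_fac _ _ _⟩

end GrothLib.Grass26
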